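import Cfsg.Agent.Lib.PGroup.KlingerMason.Rank

/-!
# Commuting conjugate involutory operators on a small elementary group

Operators `u`, `e u e⁻¹` induced on an elementary `p`-group `M` that fix a subgroup of index at
most `p ^ 2` pointwise agree when they commute, square to the identity and `e` has order `p`.
-/

set_option autoImplicit false
set_option linter.style.haveILetI false
set_option linter.unusedSectionVars false

open Subgroup
open CfsgLib.SymplecticHyperplanes (mul_card_le_of_lt eq_one_of_self_inv)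

namespace CfsgLib.KlingerMason

variable {G : Type*} [Group G] {M A : Subgroup G}

/-- An element inducing an automorphism of order at most two on `M` that fixes `A`. -/
structure IsOp (M A : Subgroup G) (u : G) : Prop where
  norm : ∀ x ∈ M, u * x * u⁻¹ ∈ M
  fixA : ∀ a ∈ A, u * a = a * u
  sq : ∀ x ∈ M, u * (u * x * u⁻¹) * u⁻¹ = x

/-- Two elements induce commuting operators on `M`. -/
def OpCommute (M : Subgroup G) (u v : G) : Prop :=
  ∀ x ∈ M, u * (v * x * v⁻¹) * u⁻¹ = v * (u * x * u⁻¹) * v⁻¹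

theorem fixed_mem_iff {u x : G} :
    x ∈ M ⊓ centralizer ({u} : Set G) ↔ x ∈ M ∧ u * x * u⁻¹ = x :=
  ⟨fun h => ⟨h.1, mul_inv_eq_iff_eq_mul.2 (mem_centralizer_singleton_iff.1 h.2).symm⟩,
    fun h => ⟨h.1, mem_centralizer_singleton_iff.2 (mul_inv_eq_iff_eq_mul.1 h.2).symm⟩⟩

variable [Finite G] {p : ℕ} [hp : Fact p.Prime]

theorem act_eq_of_fixed_eq (hp2 : p ≠ 2) (hM : Cfsg.IsElementaryAbelian p M) {u v : G}
    (hu : IsOp M A u) (hv : IsOp M A v) (huv : OpCommute M u v)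
    (hfix : M ⊓ centralizer ({u} : Set G) = M ⊓ centralizer ({v} : Set G)) :
    ∀ x ∈ M, u * x * u⁻¹ = v * x * v⁻¹ := by
  intro x hx
  have hux := hu.norm x hx
  set a := x * (u * x * u⁻¹) with ha
  set q := x * (u * x * u⁻¹)⁻¹ with hq
  have haM : a ∈ M := mul_mem hx hux
  have hqM : q ∈ M := mul_mem hx (inv_mem hux)
  have hua : u * a * u⁻¹ = a := by
    rw [show u * a * u⁻¹ = (u * x * u⁻¹) * (u * (u * x * u⁻¹) * u⁻¹) by rw [ha]; group, hu.sq x hx,
      ha, elementary_comm hM hux hx]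
  have huq : u * q * u⁻¹ = q⁻¹ := by
    rw [show u * q * u⁻¹ = (u * x * u⁻¹) * (u * (u * x * u⁻¹) * u⁻¹)⁻¹ by rw [hq]; group,
      hu.sq x hx, hq]
    group
  have hva : v * a * v⁻¹ = a := (fixed_mem_iff.1 (hfix ▸ fixed_mem_iff.2 ⟨haM, hua⟩)).2
  have hvq : v * q * v⁻¹ = q⁻¹ := by
    set t := q * (v * q * v⁻¹) with ht
    have htM : t ∈ M := mul_mem hqM (hv.norm q hqM)
    have hvt : v * t * v⁻¹ = t := by
      rw [show v * t * v⁻¹ = (v * q * v⁻¹) * (v * (v * q * v⁻¹) * v⁻¹) by rw [ht]; group,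
        hv.sq q hqM, ht, elementary_comm hM (hv.norm q hqM) hqM]
    have hut : u * t * u⁻¹ = t⁻¹ := by
      rw [show u * t * u⁻¹ = (u * q * u⁻¹) * (u * (v * q * v⁻¹) * u⁻¹) by rw [ht]; group,
        huv q hqM, huq, ht, elementary_comm hM hqM (hv.norm q hqM)]
      group
    have h1 : u * t * u⁻¹ = t := (fixed_mem_iff.1 (hfix.symm ▸ fixed_mem_iff.2 ⟨htM, hvt⟩)).2
    have ht1 : t = 1 := eq_one_of_self_inv hp2 (hM.2 t htM) (h1.symm.trans hut)
    exact eq_inv_of_mul_eq_one_right ht1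
  have hxx : x * x = a * q := by
    calc x * x = x * ((u * x * u⁻¹) * (u * x * u⁻¹)⁻¹) * x := by group
      _ = a * ((u * x * u⁻¹)⁻¹ * x) := by rw [ha]; group
      _ = a * q := by rw [hq, elementary_comm hM (inv_mem hux) hx]
  obtain ⟨j, hj⟩ := hp.out.odd_of_ne_two hp2
  have hxj : x = (x * x) ^ (j + 1) := by
    rw [← pow_two, ← pow_mul, show 2 * (j + 1) = p + 1 by omega, pow_succ, hM.2 x hx, one_mul]
  rw [hxj, ← conj_pow, ← conj_pow, hxx,
    show u * (a * q) * u⁻¹ = (u * a * u⁻¹) * (u * q * u⁻¹) by group,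
    show v * (a * q) * v⁻¹ = (v * a * v⁻¹) * (v * q * v⁻¹) by group, hua, huq, hva, hvq]

theorem exists_inverted (hp2 : p ≠ 2) (hM : Cfsg.IsElementaryAbelian p M) {u v : G}
    (hu : IsOp M A u) (huv : OpCommute M u v)
    (hne : ¬ M ⊓ centralizer ({v} : Set G) ≤ M ⊓ centralizer ({u} : Set G)) :
    ∃ q ∈ M ⊓ centralizer ({v} : Set G), u * q * u⁻¹ = q⁻¹ ∧ q ∉ A := by
  obtain ⟨x, hx, hxu⟩ := SetLike.not_le_iff_exists.1 hne
  obtain ⟨hxM, hvx⟩ := fixed_mem_iff.1 hx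
  have hq : u * (x * (u * x * u⁻¹)⁻¹) * u⁻¹ = (x * (u * x * u⁻¹)⁻¹)⁻¹ := by
    rw [show u * (x * (u * x * u⁻¹)⁻¹) * u⁻¹ =
      (u * x * u⁻¹) * (u * (u * x * u⁻¹) * u⁻¹)⁻¹ by group, hu.sq x hxM]
    group
  refine ⟨x * (u * x * u⁻¹)⁻¹, fixed_mem_iff.2 ⟨mul_mem hxM (inv_mem (hu.norm x hxM)), ?_⟩, hq,
    fun hA => hxu ?_⟩
  · rw [show v * (x * (u * x * u⁻¹)⁻¹) * v⁻¹ = (v * x * v⁻¹) * (v * (u * x * u⁻¹) * v⁻¹)⁻¹ by group,
      ← huv x hxM, hvx]
  · have h1 := eq_one_of_self_inv hp2 (hM.2 _ (mul_mem hxM (inv_mem (hu.norm x hxM))))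
      ((mul_inv_eq_iff_eq_mul.2 (hu.fixA _ hA)).symm.trans hq)
    exact fixed_mem_iff.2 ⟨hxM, (mul_inv_eq_one.1 h1).symm⟩

/-- Three pairwise different fixed subgroups of equal order are impossible. -/
theorem three_ops_false (hp2 : p ≠ 2) (hM : Cfsg.IsElementaryAbelian p M) (hAM : A ≤ M)
    (hcard : Nat.card M ≤ p ^ 2 * Nat.card A) {u v w : G} (hu : IsOp M A u) (hv : IsOp M A v)
    (hw : IsOp M A w) (huv : OpCommute M u v) (huw : OpCommute M u w)
    (hcv : Nat.card ↥(M ⊓ centralizer ({u} : Set G)) = Nat.card ↥(M ⊓ centralizer ({v} : Set G)))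
    (hcw : Nat.card ↥(M ⊓ centralizer ({u} : Set G)) = Nat.card ↥(M ⊓ centralizer ({w} : Set G)))
    (hneuv : M ⊓ centralizer ({u} : Set G) ≠ M ⊓ centralizer ({v} : Set G))
    (hneuw : M ⊓ centralizer ({u} : Set G) ≠ M ⊓ centralizer ({w} : Set G))
    (hnevw : M ⊓ centralizer ({v} : Set G) ≠ M ⊓ centralizer ({w} : Set G)) : False := by
  set F := M ⊓ centralizer ({u} : Set G) with hF
  set Fv := M ⊓ centralizer ({v} : Set G) with hFv
  set Fw := M ⊓ centralizer ({w} : Set G) with hFw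
  have hMp := isPGroup_of_elementary hM
  have hAle : ∀ {t : G}, IsOp M A t → A ≤ M ⊓ centralizer ({t} : Set G) := fun ht a ha =>
    ⟨hAM ha, mem_centralizer_singleton_iff.2 (ht.fixA a ha).symm⟩
  have hltA : A < F := by
    refine lt_of_le_of_ne (hAle hu) fun e => hneuv ?_
    rw [← e] at hcv ⊢
    exact eq_of_le_of_card_ge (hAle hv) hcv.ge
  have hltM : F < M := by
    refine lt_of_le_of_ne inf_le_left fun e => hneuv ?_
    rw [e] at hcv ⊢
    exact (eq_of_le_of_card_ge (inf_le_left : Fv ≤ M) hcv.le).symm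
  have h1 := mul_card_le_of_lt (hMp.to_le inf_le_left) hltA
  have h2 := mul_card_le_of_lt hMp hltM
  have hFc : p * Nat.card A = Nat.card F := by
    refine le_antisymm h1 (Nat.le_of_mul_le_mul_left ?_ hp.out.pos)
    calc p * Nat.card F ≤ Nat.card M := h2
      _ ≤ p ^ 2 * Nat.card A := hcard
      _ = p * (p * Nat.card A) := by ring
  obtain ⟨q, hqv, hqu, hqA⟩ := exists_inverted hp2 hM hu huv fun h =>
    hneuv (eq_of_le_of_card_ge h hcv.le).symm
  obtain ⟨q', hqw, hqu', hqA'⟩ := exists_inverted hp2 hM hu huw fun h =>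
    hneuw (eq_of_le_of_card_ge h hcw.le).symm
  have hn : ∀ {K : Subgroup G} {t : G}, K ≤ M → t ∈ M → zpowers t ≤ normalizer (K : Set G) :=
    fun hK ht => (le_centralizer_of_le hM (zpowers_le.2 ht) hK).trans
      (CfsgLib.Coprime.centralizer_le_normalizer_self _)
  have hsupv : A ⊔ zpowers q = Fv := by
    refine eq_of_le_of_card_ge (sup_le (hAle hv) (zpowers_le.2 hqv)) ?_
    rw [← hcv, ← hFc]
    exact mul_card_le_of_lt (hMp.to_le (sup_le hAM (zpowers_le.2 hqv.1)))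
      (lt_of_le_of_ne le_sup_left fun e => hqA (e ▸ mem_sup_right (mem_zpowers q)))
  have hsupw : A ⊔ zpowers q' = Fw := by
    refine eq_of_le_of_card_ge (sup_le (hAle hw) (zpowers_le.2 hqw)) ?_
    rw [← hcw, ← hFc]
    exact mul_card_le_of_lt (hMp.to_le (sup_le hAM (zpowers_le.2 hqw.1)))
      (lt_of_le_of_ne le_sup_left fun e => hqA' (e ▸ mem_sup_right (mem_zpowers q')))
  have hq'v : q' ∉ Fv := fun h => hnevw (eq_of_le_of_card_ge
    (hsupw ▸ sup_le (hAle hv) (zpowers_le.2 h) : Fw ≤ Fv) (hcv.symm.trans hcw).le).symm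
  have hsupM : Fv ⊔ zpowers q' = M := by
    refine eq_of_le_of_card_ge (sup_le inf_le_left (zpowers_le.2 hqw.1)) (hcard.trans ?_)
    rw [show p ^ 2 * Nat.card A = p * (p * Nat.card A) by ring, hFc, hcv]
    exact mul_card_le_of_lt (hMp.to_le (sup_le inf_le_left (zpowers_le.2 hqw.1)))
      (lt_of_le_of_ne le_sup_left fun e => hq'v (e ▸ mem_sup_right (mem_zpowers q')))
  refine hltA.not_ge fun m hm => ?_
  obtain ⟨hmM, hum⟩ := fixed_mem_iff.1 hm
  obtain ⟨f, hf, i', hi', rfl⟩ :=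
    CfsgLib.Coprime.mem_sup_exists (hn inf_le_left hqw.1) (hsupM.ge hmM)
  obtain ⟨a, ha, i, hi, rfl⟩ :=
    CfsgLib.Coprime.mem_sup_exists (hn hAM hqv.1) (hsupv.ge hf)
  have hinv : ∀ {t r : G}, r ∈ zpowers t → u * t * u⁻¹ = t⁻¹ → u * r * u⁻¹ = r⁻¹ := by
    intro t r hr ht
    obtain ⟨n, rfl⟩ := mem_zpowers_iff.1 hr
    rw [← conj_zpow, ht, inv_zpow]
  have hiM : i ∈ M := zpowers_le.2 hqv.1 hi
  have hiM' : i' ∈ M := zpowers_le.2 hqw.1 hi'
  rw [show u * (a * i * i') * u⁻¹ = (u * a * u⁻¹) * ((u * i * u⁻¹) * (u * i' * u⁻¹)) by group,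
    mul_inv_eq_iff_eq_mul.2 (hu.fixA a ha), hinv hi hqu, hinv hi' hqu', mul_assoc a i i',
    mul_right_inj] at hum
  have h1 : i * i' = 1 := eq_one_of_self_inv hp2 (hM.2 _ (mul_mem hiM hiM')) (by
    rw [mul_inv_rev, elementary_comm hM (inv_mem hiM') (inv_mem hiM), hum])
  rw [mul_assoc, h1, mul_one]
  exact ha

theorem card_fixed_conj {u e : G} (he : e ∈ normalizer (M : Set G)) :
    Nat.card ↥(M ⊓ centralizer ({e * u * e⁻¹} : Set G)) =
      Nat.card ↥(M ⊓ centralizer ({u} : Set G)) := by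
  have : M ⊓ centralizer ({e * u * e⁻¹} : Set G) =
      (M ⊓ centralizer ({u} : Set G)).map (MulAut.conj e).toMonoidHom := by
    ext x
    rw [fixed_mem_iff]
    constructor
    · rintro ⟨hx, hfix⟩
      refine ⟨e⁻¹ * x * e, fixed_mem_iff.2 ⟨(mem_normalizer_iff''.1 he x).1 hx, ?_⟩, by simp [mul_assoc]⟩
      calc u * (e⁻¹ * x * e) * u⁻¹ = e⁻¹ * ((e * u * e⁻¹) * x * (e * u * e⁻¹)⁻¹) * e := by group
        _ = e⁻¹ * x * e := by rw [hfix]
    · rintro ⟨y, hy, rfl⟩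
      obtain ⟨hyM, hfix⟩ := fixed_mem_iff.1 hy
      refine ⟨(mem_normalizer_iff.1 he y).1 hyM, ?_⟩
      calc e * u * e⁻¹ * (MulAut.conj e y) * (e * u * e⁻¹)⁻¹ = e * (u * y * u⁻¹) * e⁻¹ := by
            rw [MulAut.conj_apply]; group
        _ = MulAut.conj e y := by rw [hfix, MulAut.conj_apply]
  rw [this]
  exact card_map_of_injective (MulAut.conj e).injective

/-- `u` and `e u e⁻¹` induce the same operator on `M`. -/
theorem conj_op_eq (hp2 : p ≠ 2) (hM : Cfsg.IsElementaryAbelian p M) (hAM : A ≤ M)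
    (hcard : Nat.card M ≤ p ^ 2 * Nat.card A) {u e : G} (he : e ∈ normalizer (M : Set G))
    (hep : e ^ p = 1) (hu : IsOp M A u) (hv : IsOp M A (e * u * e⁻¹))
    (hw : IsOp M A (e * e * u * (e * e)⁻¹)) (huv : OpCommute M u (e * u * e⁻¹))
    (huw : OpCommute M u (e * e * u * (e * e)⁻¹)) :
    ∀ x ∈ M, u * x * u⁻¹ = e * u * e⁻¹ * x * (e * u * e⁻¹)⁻¹ := by
  have hee : e * e ∈ normalizer (M : Set G) := mul_mem he he
  have hcM : ∀ x ∈ M, ∀ f ∈ normalizer (M : Set G), f⁻¹ * x * f ∈ M :=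
    fun x hx f hf => (mem_normalizer_iff''.1 hf x).1 hx
  by_cases huv' : M ⊓ centralizer ({u} : Set G) = M ⊓ centralizer ({e * u * e⁻¹} : Set G)
  · exact act_eq_of_fixed_eq hp2 hM hu hv huv huv'
  by_cases huw' : M ⊓ centralizer ({u} : Set G) =
      M ⊓ centralizer ({e * e * u * (e * e)⁻¹} : Set G)
  · have h2 := act_eq_of_fixed_eq hp2 hM hu hw huw huw'
    obtain ⟨j, hj⟩ := hp.out.odd_of_ne_two hp2
    have hpw : ∀ n : ℕ, ∀ x ∈ M, u * x * u⁻¹ =
        (e * e) ^ n * u * ((e * e) ^ n)⁻¹ * x * ((e * e) ^ n * u * ((e * e) ^ n)⁻¹)⁻¹ := by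
      intro n
      induction n with
      | zero => intro x _; simp
      | succ n ih =>
        intro x hx
        have hf : (e * e) ^ n ∈ normalizer (M : Set G) := pow_mem hee n
        rw [ih x hx, show (e * e) ^ n * u * ((e * e) ^ n)⁻¹ * x *
            ((e * e) ^ n * u * ((e * e) ^ n)⁻¹)⁻¹ = (e * e) ^ n *
            (u * (((e * e) ^ n)⁻¹ * x * (e * e) ^ n) * u⁻¹) * ((e * e) ^ n)⁻¹ by group,
          h2 _ (hcM x hx _ hf), pow_succ]
        group
    intro x hx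
    have h := hpw (j + 1) x hx
    rwa [show (e * e) ^ (j + 1) = e by
      rw [← pow_two, ← pow_mul, show 2 * (j + 1) = p + 1 by omega, pow_succ, hep, one_mul]] at h
  exfalso
  refine three_ops_false hp2 hM hAM hcard hu hv hw huv huw (card_fixed_conj he).symm
    (card_fixed_conj hee).symm huv' huw' fun h => huv' ?_
  -- conjugating back by `e`
  have hmap : ∀ (f : G) (_ : f ∈ normalizer (M : Set G)) (v : G),
      ∀ x, x ∈ M ⊓ centralizer ({v} : Set G) →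
        f * x * f⁻¹ ∈ M ⊓ centralizer ({f * v * f⁻¹} : Set G) := by
    intro f hf v x hx
    obtain ⟨hxM, hfix⟩ := fixed_mem_iff.1 hx
    refine fixed_mem_iff.2 ⟨(mem_normalizer_iff.1 hf x).1 hxM, ?_⟩
    calc f * v * f⁻¹ * (f * x * f⁻¹) * (f * v * f⁻¹)⁻¹ = f * (v * x * v⁻¹) * f⁻¹ := by group
      _ = f * x * f⁻¹ := by rw [hfix]
  ext x
  constructor <;> intro hx
  · have h1 := hmap e he _ x hx
    rw [h, show e * e * u * (e * e)⁻¹ = e * (e * u * e⁻¹) * e⁻¹ by group] at h1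
    have h2 := hmap e⁻¹ (inv_mem he) _ _ h1
    rwa [show e⁻¹ * (e * x * e⁻¹) * e⁻¹⁻¹ = x by group,
      show e⁻¹ * (e * (e * u * e⁻¹) * e⁻¹) * e⁻¹⁻¹ = e * u * e⁻¹ by group] at h2
  · have h1 := hmap e he _ x hx
    rw [show e * (e * u * e⁻¹) * e⁻¹ = e * e * u * (e * e)⁻¹ by group, ← h] at h1
    have h2 := hmap e⁻¹ (inv_mem he) _ _ h1
    rwa [show e⁻¹ * (e * x * e⁻¹) * e⁻¹⁻¹ = x by group,
      show e⁻¹ * (e * u * e⁻¹) * e⁻¹⁻¹ = u by group] at h2

end CfsgLib.KlingerMason
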