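import Cfsg.Agent.Lib.PGroup.KlingerMason.Pairs
import Cfsg.Agent.Lib.PGroup.KlingerMason.Action

/-!
# A dihedral configuration in the centralizer of `k - 2` independent elements

From a witness of rank `k` we get an elementary `A` of order at least `p ^ (k - 2)`, commuting
involutions `z, s, g` and an element `r` in `C(A)`, and commuting `y, y'` of order `p` moved by
them as the two coordinates of a monomial representation.
-/

set_option autoImplicit false
set_option linter.style.haveILetI false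
set_option linter.unusedSectionVars false

open Subgroup
open scoped commutatorElement
open CfsgLib.SymplecticHyperplanes (mul_card_le_of_lt elementary_sup_zpowers eq_one_of_self_inv)

namespace CfsgLib.KlingerMason

/-- The configuration. -/
structure Config {G : Type*} [Group G] (p k : ℕ) (A : Subgroup G) (z s g r y y' : G) : Prop where
  elem : Cfsg.IsElementaryAbelian p A
  cardA : p ^ k ≤ p ^ 2 * Nat.card A
  cz : z ∈ centralizer (A : Set G)
  cs : s ∈ centralizer (A : Set G)
  cg : g ∈ centralizer (A : Set G)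
  cr : r ∈ centralizer (A : Set G)
  cy : y ∈ centralizer (A : Set G)
  cy' : y' ∈ centralizer (A : Set G)
  z2 : z * z = 1
  s2 : s * s = 1
  s1 : s ≠ 1
  g2 : g * g = 1
  r2 : r * r = 1 ∨ r * r = z
  zs : z * s = s * z
  zg : z * g = g * z
  zr : z * r = r * z
  sg : s * g = g * s
  sr : s * r = r * s
  rg : r * g = g * (r * z)
  yp : y ^ p = 1
  y1 : y ≠ 1
  zy : z * y * z⁻¹ = y⁻¹
  sy : s * y = y * s
  gy : g * y = y * g
  y'def : y' = r * y * r⁻¹
  yy' : y * y' = y' * y

variable {G : Type*} [Group G] [Finite G] {p k : ℕ} [hp : Fact p.Prime]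

theorem mem_or_mul_mem {H K : Subgroup G} (hH : Cfsg.IsElementaryAbelian 2 H) (hK : K ≤ H)
    (hKc : 2 * Nat.card K = Nat.card H) {s z : G} (hs : s ∈ H) (hz : z ∈ H) (hzK : z ∉ K) :
    s ∈ K ∨ s * z ∈ K := by
  haveI : Fact (Nat.Prime 2) := ⟨Nat.prime_two⟩
  by_cases hsK : s ∈ K
  · exact Or.inl hsK
  have hsup := hyperplanes_sup hH hK (zpowers_le.2 hs) hKc fun h => hsK (h (mem_zpowers s))
  have hn : zpowers s ≤ normalizer (K : Set G) :=
    (le_centralizer_of_le hH (zpowers_le.2 hs) hK).trans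
      (CfsgLib.Coprime.centralizer_le_normalizer_self K)
  obtain ⟨x, hx, t, ht, hxt⟩ := CfsgLib.Coprime.mem_sup_exists hn (hsup.ge hz)
  obtain ⟨i, rfl⟩ := mem_zpowers_iff.1 ht
  have hs2 : s * s = 1 := by rw [← pow_two]; exact hH.2 s hs
  rcases Int.even_or_odd i with ⟨j, rfl⟩ | ⟨j, rfl⟩
  · rw [show s ^ (j + j) = (s * s) ^ j by rw [(Commute.refl s).mul_zpow, ← zpow_add], hs2,
      one_zpow, mul_one] at hxt
    exact absurd (hxt ▸ hx) hzK
  · rw [show s ^ (2 * j + 1) = (s * s) ^ j * s by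
      rw [(Commute.refl s).mul_zpow, ← zpow_add, ← zpow_add_one]; ring_nf, hs2, one_zpow,
      one_mul] at hxt
    refine Or.inr ?_
    rw [← hxt, elementary_comm hH (hK hx) hs, ← mul_assoc, hs2, one_mul]
    exact hx

theorem Setup.exists_config (hs : Setup G p k) {R E : Subgroup G} (hR : IsPGroup 2 R)
    (hR1 : R ≠ ⊥) (hE : Cfsg.IsElementaryAbelian p E) (hEc : Nat.card E = p ^ k)
    (hER : E ≤ normalizer (R : Set G)) :
    ∃ A : Subgroup G, ∃ z s g r y y', Config p k A z s g r y y' := by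
  haveI : Fact (Nat.Prime 2) := ⟨Nat.prime_two⟩
  have hk := hs.three
  have hp2 := hs.odd
  obtain ⟨C, z, hf, -⟩ := hs.exists_frame hR hR1 hE hEc hER
  obtain ⟨B₁, B₂, hB₁, hB₂, hB₁c, hB₂c, -, u, v, u', v', q⟩ := hf.exists_quad hp2 (by omega)
  set A := B₁ ⊓ B₂ with hAdef
  have hAE : A ≤ E := inf_le_left.trans hB₁
  have hA : Cfsg.IsElementaryAbelian p A := elementary_mono hE hAE
  have hAc : p ^ k ≤ p ^ 2 * Nat.card A := hEc ▸ hyperplanes_inf hB₁ hB₂ hB₁c hB₂c
  have hA1 : A ≠ ⊥ := by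
    intro e
    rw [e, card_bot, mul_one] at hAc
    have := (Nat.pow_le_pow_iff_right hp.out.one_lt).1 hAc
    omega
  have hpiece : ∀ w ∈ ((piece E C B₁ : Set G) ∪ piece E C B₂),
      w ∈ C ∧ w ∈ centralizer (A : Set G) := by
    rintro w (hw | hw)
    · exact ⟨(hf.piece_le hB₁ hw).1, centralizer_le inf_le_left (hf.piece_le hB₁ hw).2⟩
    · exact ⟨(hf.piece_le hB₂ hw).1, centralizer_le inf_le_right (hf.piece_le hB₂ hw).2⟩
  obtain ⟨huC, huA⟩ := hpiece u q.hu
  obtain ⟨hvC, hvA⟩ := hpiece v q.hv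
  obtain ⟨huC', huA'⟩ := hpiece u' q.hu'
  obtain ⟨hvC', hvA'⟩ := hpiece v' q.hv'
  have hz := hf.z_sq
  have hzA : z ∈ centralizer (A : Set G) :=
    mem_centralizer_iff.2 fun a ha => hf.z_comm_E (hAE ha)
  obtain ⟨ε, hεε, hε, hu2, hv2, hu2', hv2'⟩ := q.eps
  set s := u * u' with hs_def
  set g := v * v' with hg_def
  have hsC : s ∈ C := mul_mem huC huC'
  have hgC : g ∈ C := mul_mem hvC hvC'
  have hzu := hf.z_comm huC
  have hnc : ∀ {a b : G}, a * b = z * (b * a) → a * b ≠ b * a := fun {a b} h h' => hf.z_ne (by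
    rw [h] at h'
    exact mul_eq_right.1 h')
  have hss : s * s = 1 := by
    rw [hs_def, show u * u' * (u * u') = u * (u' * u) * u' by group, ← q.cuu,
      show u * (u * u') * u' = (u * u) * (u' * u') by group, hu2, hu2', hεε]
  have hgg : g * g = 1 := by
    rw [hg_def, show v * v' * (v * v') = v * (v' * v) * v' by group, ← q.cvv,
      show v * (v * v') * v' = (v * v) * (v' * v') by group, hv2, hv2', hεε]
  have hru : u * g = g * (u * z) := by
    calc u * g = (u * v) * v' := by rw [hg_def]; group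
      _ = z * (v * (u * v')) := by rw [q.huv]; group
      _ = z * (g * u) := by rw [q.cuv, hg_def]; group
      _ = g * (u * z) := by
          rw [← hf.z_comm (mul_mem hgC huC)]; group
  have hsg : s * g = g * s := by
    calc s * g = u * (u' * v) * v' := by rw [hs_def, hg_def]; group
      _ = (u * v) * (u' * v') := by rw [← q.cvu]; group
      _ = z * (v * u) * (z * (v' * u')) := by rw [q.huv, q.huv']
      _ = z * ((v * u) * z) * (v' * u') := by group
      _ = (z * z) * (v * (u * v') * u') := by rw [hf.z_comm (mul_mem hvC huC)]; group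
      _ = g * s := by rw [hz, one_mul, q.cuv, hs_def, hg_def]; group
  have hsu : s * u = u * s := by
    rw [hs_def, mul_assoc, ← q.cuu]
  have hs1 : s ≠ 1 := fun h => hnc q.huv (by
    have hu' : u' = u⁻¹ := eq_inv_of_mul_eq_one_right h
    have h1 : Commute v u⁻¹ := hu' ▸ q.cvu
    simpa using h1.inv_right.symm.eq)
  have hsz : s ≠ z := fun h => hnc q.huv (by
    have hu' : u' = u⁻¹ * z := eq_inv_mul_of_mul_eq h
    have h1 : Commute v (u⁻¹ * z) := hu' ▸ q.cvu
    have h2 : Commute v (u⁻¹ * z * z⁻¹) := h1.mul_right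
      (show Commute v z from hf.z_comm hvC).inv_right
    rw [mul_inv_cancel_right] at h2
    simpa using h2.inv_right.symm.eq)
  -- the elementary group `⟨z, s, g⟩`
  have hcl : ∀ {x : G}, x ∈ C → x * z = z * x := fun hx => hf.z_comm hx
  have hbase : Cfsg.IsElementaryAbelian 2 (zpowers z) := by
    refine ⟨inferInstance, fun a ha => ?_⟩
    obtain ⟨i, rfl⟩ := mem_zpowers_iff.1 ha
    rw [← zpow_natCast, ← zpow_mul, mul_comm, zpow_mul, zpow_natCast, pow_two, hz, one_zpow]
  have hzs : ∀ w ∈ zpowers z, s * w = w * s := fun w hw => by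
    obtain ⟨i, rfl⟩ := mem_zpowers_iff.1 hw
    exact ((show Commute s z from hcl hsC).zpow_right i).eq
  set H₁ := zpowers z ⊔ zpowers s with hH₁
  have hH₁e : Cfsg.IsElementaryAbelian 2 H₁ :=
    elementary_sup_zpowers hbase (by rw [pow_two]; exact hss) hzs
  set H := H₁ ⊔ zpowers g with hHdef
  have hH : Cfsg.IsElementaryAbelian 2 H := by
    refine elementary_sup_zpowers hH₁e (by rw [pow_two]; exact hgg) fun w hw => ?_
    have h : H₁ ≤ centralizer ({g} : Set G) := sup_le
      (zpowers_le.2 (mem_centralizer_singleton_iff.2 (hcl hgC).symm))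
      (zpowers_le.2 (mem_centralizer_singleton_iff.2 hsg))
    exact (mem_centralizer_singleton_iff.1 (h hw)).symm
  have hzH : z ∈ H := mem_sup_left (mem_sup_left (mem_zpowers z))
  have hsH : s ∈ H := mem_sup_left (mem_sup_right (mem_zpowers s))
  have hgH : g ∈ H := mem_sup_right (mem_zpowers g)
  have hHA : H ≤ centralizer (A : Set G) :=
    sup_le (sup_le (zpowers_le.2 hzA) (zpowers_le.2 (mul_mem huA huA')))
      (zpowers_le.2 (mul_mem hvA hvA'))
  -- the detector
  obtain ⟨D, hDQ, hDn, hDp, hDclass, hdet⟩ :=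
    CfsgLib.SymplecticHyperplanes.exists_detector_class_two hp2 (isPGroup_coreCent (p := p) A)
  have hNA : normalizer (A : Set G) ≤ normalizer (D : Set G) :=
    (normalizer_le_normalizer_coreCent A).trans hDn
  have hCA : centralizer (A : Set G) ≤ normalizer (D : Set G) :=
    (CfsgLib.Coprime.centralizer_le_normalizer_self A).trans hNA
  have hDA : D ≤ centralizer (A : Set G) := hDQ.trans inf_le_right
  have hzD : ¬ D ≤ centralizer ({z} : Set G) := by
    intro h
    refine zpowers_ne_bot.2 hf.z_ne (hs.faithful (isPGroup_of_elementary hA) hA1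
      (isPGroup_of_elementary hbase) (zpowers_le.2 hzA) (zpowers_le.2 (hdet z
        ((CfsgLib.Coprime.centralizer_le_normalizer_self A).trans
          (normalizer_le_normalizer_coreCent A) hzA) ?_
        (mem_centralizer_iff.2 fun d hd => mem_centralizer_singleton_iff.1 (h hd)))))
    rw [orderOf_eq_prime (by rw [pow_two]; exact hz) hf.z_ne]
    exact (Nat.coprime_primes Nat.prime_two hp.out).2 (Ne.symm hp2)
  have hDpg : IsPGroup p D := (isPGroup_coreCent A).to_le hDQ
  have hsnot : s ∉ zpowers z := fun h => by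
    obtain ⟨i, hi⟩ := mem_zpowers_iff.1 h
    rw [← zpow_mod_orderOf, orderOf_eq_prime (by rw [pow_two]; exact hz) hf.z_ne] at hi
    rcases Int.emod_two_eq_zero_or_one i with hi0 | hi0 <;> rw [Nat.cast_ofNat, hi0] at hi
    · exact hs1 (by rw [← hi, zpow_zero])
    · exact hsz (by rw [← hi, zpow_one])
  obtain ⟨K, hK, hKc, hKmove⟩ := exists_hyperplane_not_le (W := centralizer ({z} : Set G)) hH
    (CfsgLib.SymplecticHyperplanes.four_le_card hH hzH hsH hf.z_ne hsnot)
    (not_dvd_card (Ne.symm hp2) hDpg) (hHA.trans hCA) hzD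
  have hzK : z ∉ K := fun h => hKmove fun d hd =>
    mem_centralizer_singleton_iff.2 (mem_centralizer_iff.1 hd.2 z h).symm
  obtain ⟨w, hw, hwz⟩ := SetLike.not_le_iff_exists.1 hKmove
  obtain ⟨s', hs'K, hs'⟩ : ∃ s' ∈ K, s' = s ∨ s' = s * z :=
    (mem_or_mul_mem hH hK hKc hsH hzH hzK).elim (fun h => ⟨s, h, Or.inl rfl⟩)
      fun h => ⟨_, h, Or.inr rfl⟩
  obtain ⟨g', hg'K, hg'⟩ : ∃ g' ∈ K, g' = g ∨ g' = g * z :=
    (mem_or_mul_mem hH hK hKc hgH hzH hzK).elim (fun h => ⟨g, h, Or.inl rfl⟩)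
      fun h => ⟨_, h, Or.inr rfl⟩
  have hs'1 : s' ≠ 1 := by
    rcases hs' with rfl | rfl
    · exact hs1
    · exact fun h => hsz ((eq_inv_of_mul_eq_one_left h).trans (inv_eq_of_mul_eq_one_right hz))
  have hs'r : s' * u = u * s' := by
    rcases hs' with rfl | rfl
    · exact hsu
    · rw [mul_assoc, ← hcl huC, ← mul_assoc, hsu, mul_assoc]
  have hrg' : u * g' = g' * (u * z) := by
    rcases hg' with rfl | rfl
    · exact hru
    · rw [← mul_assoc u g z, hru, mul_assoc g z, ← mul_assoc z u z, ← hcl huC]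
      group
  have hzi : z⁻¹ = z := inv_eq_of_mul_eq_one_right hz
  set y := w⁻¹ * (z * w * z⁻¹) with hydef
  have hzwD : z * w * z⁻¹ ∈ D := (mem_normalizer_iff.1 (hCA hzA) w).1 hw.1
  have hyD : y ∈ D := mul_mem (inv_mem hw.1) hzwD
  have hy1 : y ≠ 1 := fun h => hwz (mem_centralizer_singleton_iff.2
    (mul_inv_eq_iff_eq_mul.1 (inv_mul_eq_one.1 h).symm).symm)
  have hzy : z * y * z⁻¹ = y⁻¹ := by
    calc z * y * z⁻¹ = z * w⁻¹ * z⁻¹ * ((z * z) * w * (z * z)⁻¹) := by rw [hydef]; group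
      _ = y⁻¹ := by rw [hz, hydef]; group
  have hKy : ∀ c ∈ K, c * y = y * c := by
    intro c hc
    have h1 : Commute c w := mem_centralizer_iff.1 hw.2 c hc
    have h2 : Commute c z := elementary_comm hH (hK hc) hzH
    exact (h1.inv_right.mul_right ((h2.mul_right h1).mul_right h2.inv_right)).eq
  set y₂ := u * y * u⁻¹ with hy₂def
  have hy₂D : y₂ ∈ D := (mem_normalizer_iff.1 (hCA huA) y).1 hyD
  have hgy₂ : g' * y₂ * g'⁻¹ = y₂⁻¹ := by
    have hg'u : g' * u = u * (g' * z) := by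
      have h1 : g' * u = u * g' * z⁻¹ := by rw [hrg']; group
      rw [h1, hzi, mul_assoc]
    calc g' * y₂ * g'⁻¹ = (g' * u) * y * (g' * u)⁻¹ := by rw [hy₂def]; group
      _ = u * (g' * (z * y * z⁻¹) * g'⁻¹) * u⁻¹ := by rw [hg'u]; group
      _ = y₂⁻¹ := by
        rw [hzy, mul_inv_eq_iff_eq_mul.2
          ((show Commute g' y from hKy g' hg'K).inv_right.eq), hy₂def]
        group
  have hzy₂ : z * y₂ * z⁻¹ = y₂⁻¹ := by
    calc z * y₂ * z⁻¹ = (z * u) * y * (z * u)⁻¹ := by rw [hy₂def]; group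
      _ = u * (z * y * z⁻¹) * u⁻¹ := by rw [← hcl huC]; group
      _ = y₂⁻¹ := by rw [hzy, hy₂def]; group
  -- `c = [y, y₂]` lies in a subgroup centralized by the pieces
  set c := ⁅y, y₂⁆ with hcdef
  have hcD : c ∈ D := mul_mem (mul_mem (mul_mem hyD hy₂D) (inv_mem hyD)) (inv_mem hy₂D)
  have hcc : ∀ d ∈ D, d * c = c * d := fun d hd => hDclass y hyD y₂ hy₂D d hd
  have hczy : ⁅y⁻¹, y₂⁻¹⁆ = c := by
    have h1 : y * c = c * y := hcc y hyD
    have h2 : y₂ * c = c * y₂ := hcc y₂ hy₂D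
    calc ⁅y⁻¹, y₂⁻¹⁆ = (y₂ * y)⁻¹ * (c * (y₂ * y)) := by
          simp only [hcdef, commutatorElement_def]; group
      _ = (y₂ * y)⁻¹ * ((y₂ * y) * c) := by
          rw [((show Commute y₂ c from h2).mul_left (show Commute y c from h1)).eq]
      _ = c := by group
  have hcgy : ⁅y, y₂⁻¹⁆ = c⁻¹ := by
    calc ⁅y, y₂⁻¹⁆ = y₂⁻¹ * (c⁻¹ * y₂) := by
          simp only [hcdef, commutatorElement_def]; group
      _ = y₂⁻¹ * (y₂ * c⁻¹) := by
          rw [(show Commute y₂ c from hcc y₂ hy₂D).inv_right.eq]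
      _ = c⁻¹ := by group
  have hconjc : ∀ x : G, x * c * x⁻¹ = ⁅x * y * x⁻¹, x * y₂ * x⁻¹⁆ := fun x => by
    simp only [hcdef, commutatorElement_def]; group
  have hzc : z * c * z⁻¹ = c := by rw [hconjc, hzy, hzy₂, hczy]
  have hgc : g' * c * g'⁻¹ = c⁻¹ := by
    rw [hconjc, mul_inv_eq_iff_eq_mul.2 (hKy g' hg'K), hgy₂, hcgy]
  -- the subgroup `M`
  set W := D ⊓ centralizer (D : Set G) ⊓ centralizer ({z} : Set G) with hWdef
  have hWA : A ≤ centralizer (W : Set G) :=
    le_centralizer_iff.1 ((inf_le_left.trans inf_le_left).trans hDA)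
  have hWn : W ≤ normalizer (A : Set G) :=
    ((inf_le_left.trans inf_le_left).trans hDA).trans
      (CfsgLib.Coprime.centralizer_le_normalizer_self A)
  set M := A ⊔ W with hMdef
  have hM : Cfsg.IsElementaryAbelian p M := by
    refine ⟨isMulCommutative_iff.2 fun a b => Subtype.ext ?_, fun a ha => ?_⟩
    · obtain ⟨a₁, ha₁, w₁, hw₁, ha⟩ := CfsgLib.Coprime.mem_sup_exists hWn a.2
      obtain ⟨a₂, ha₂, w₂, hw₂, hb⟩ := CfsgLib.Coprime.mem_sup_exists hWn b.2
      show (a : G) * b = b * a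
      rw [← ha, ← hb]
      have c1 : Commute a₁ w₂ := (mem_centralizer_iff.1 (hWA ha₁) w₂ hw₂).symm
      have c2 : Commute a₂ w₁ := (mem_centralizer_iff.1 (hWA ha₂) w₁ hw₁).symm
      have c3 : Commute w₁ w₂ := mem_centralizer_iff.1 hw₂.1.2 w₁ hw₁.1.1
      exact ((Commute.mul_right (elementary_comm hA ha₁ ha₂) c1).mul_left
        (c2.symm.mul_right c3)).eq
    · obtain ⟨a₁, ha₁, w₁, hw₁, rfl⟩ := CfsgLib.Coprime.mem_sup_exists hWn ha
      rw [(show Commute a₁ w₁ from (mem_centralizer_iff.1 (hWA ha₁) w₁ hw₁).symm).mul_pow,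
        hA.2 a₁ ha₁, hDp w₁ hw₁.1.1, mul_one]
  have hMz : M ≤ centralizer ({z} : Set G) :=
    sup_le (fun a ha => mem_centralizer_singleton_iff.2 (hf.z_comm_E (hAE ha))) inf_le_right
  have hMc : Nat.card M ≤ p ^ 2 * Nat.card A :=
    (hs.rank (zpowers z) M (isPGroup_of_elementary hbase) (zpowers_ne_bot.2 hf.z_ne) hM
      ((le_centralizer_iff.1 (zpowers_le.2 (mem_centralizer_iff.2 fun m hm =>
        mem_centralizer_singleton_iff.1 (hMz hm)))).trans
        (CfsgLib.Coprime.centralizer_le_normalizer_self _))).trans hAc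
  set L := centralizer (A : Set G) ⊓ centralizer ({z} : Set G) with hLdef
  have hLM : L ≤ normalizer (M : Set G) := by
    refine CfsgLib.Coprime.sup_le_normalizer
      (inf_le_left.trans (CfsgLib.Coprime.centralizer_le_normalizer_self A))
      (CfsgLib.Coprime.inf_le_normalizer (CfsgLib.Coprime.inf_le_normalizer
        (inf_le_left.trans hCA) ((inf_le_left.trans hCA).trans
          (CfsgLib.Coprime.normalizer_le_normalizer_centralizer D))) ?_)
    exact inf_le_right.trans le_normalizer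
  have hEL : E ≤ L := fun e he =>
    ⟨le_centralizer_of_le hE le_rfl hAE he, mem_centralizer_singleton_iff.2 (hf.z_comm_E he)⟩
  have hpieceM : ∀ {B : Subgroup G}, B ≤ E → A ≤ B →
      piece E C B ≤ centralizer (M : Set G) := by
    intro B hB hAB
    have hPL : piece E C B ≤ L := fun x hx =>
      ⟨centralizer_le hAB (hf.piece_le hB hx).2,
        mem_centralizer_singleton_iff.2 (hcl (hf.piece_le hB hx).1)⟩
    have hop : ∀ x ∈ piece E C B, IsOp M A x := fun x hx =>
      ⟨fun m hm => (mem_normalizer_iff.1 (hLM (hPL hx)) m).1 hm,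
        fun a ha => (mem_centralizer_iff.1 (hPL hx).1 a ha).symm, fun m hm => by
          rw [show x * (x * m * x⁻¹) * x⁻¹ = (x * x) * m * (x * x)⁻¹ by group]
          rcases hf.piece_sq hB hx with h | h <;> rw [h]
          · group
          · rw [← mem_centralizer_singleton_iff.1 (hMz hm), mul_inv_cancel_right]⟩
    have hcom : ∀ x ∈ piece E C B, ∀ x' ∈ piece E C B, OpCommute M x x' := by
      intro x hx x' hx' m hm
      rw [show x * (x' * m * x'⁻¹) * x⁻¹ = (x * x') * m * (x * x')⁻¹ by group]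
      rcases hf.comm x (hf.piece_le hB hx).1 x' (hf.piece_le hB hx').1 with h | h
      · rw [h]; group
      · have hzm : z * m * z⁻¹ = m :=
          mul_inv_eq_iff_eq_mul.2 (mem_centralizer_singleton_iff.1 (hMz hm)).symm
        have hzx : (x' * x) * z = z * (x' * x) :=
          hcl (mul_mem (hf.piece_le hB hx').1 (hf.piece_le hB hx).1)
        calc x * x' * m * (x * x')⁻¹ = (x' * x) * (z * m * z⁻¹) * (x' * x)⁻¹ := by
              rw [h, ← hzx]; group
          _ = _ := by rw [hzm]; group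
    have hconjP : ∀ e ∈ E, ∀ x ∈ piece E C B, e * x * e⁻¹ ∈ piece E C B := fun e he x hx =>
      (mem_normalizer_iff.1 (hf.piece_normE hB he) x).1 hx
    have h1 := CfsgLib.Coprime.commutator_commutator_eq
      (inf_centralizer_le_normalizer hE hB hf.normE)
      (coprime_card hp2 (isPGroup_of_elementary hE) (hf.two.to_le inf_le_left))
      (Or.inl (CfsgLib.Coprime.isSolvable_of_isMulCommutative hE.1))
    change ⁅C ⊓ centralizer (B : Set G), E⁆ ≤ _
    rw [← h1]
    refine commutator_le.2 fun x hx e he => mem_centralizer_iff.2 fun m hm => ?_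
    have heM : e ∈ normalizer (M : Set G) := hLM (hEL he)
    have hx' := hconjP e he x hx
    have hact := conj_op_eq hp2 hM le_sup_left hMc heM (hE.2 e he) (hop x hx) (hop _ hx')
      (hop _ (hconjP _ (mul_mem he he) x hx)) (hcom x hx _ hx')
      (hcom x hx _ (hconjP _ (mul_mem he he) x hx))
    set x' := e * x * e⁻¹ with hx'def
    have hxe : ⁅x, e⁆ = x * x'⁻¹ := by rw [hx'def, commutatorElement_def]; group
    have hm' : x'⁻¹ * m * x' ∈ M := (mem_normalizer_iff''.1 (hLM (hPL hx')) m).1 hm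
    have := hact _ hm'
    rw [show x' * (x'⁻¹ * m * x') * x'⁻¹ = m by group] at this
    rw [hxe]
    symm
    calc x * x'⁻¹ * m = x * (x'⁻¹ * m * x') * x⁻¹ * (x * x'⁻¹) := by group
      _ = m * (x * x'⁻¹) := by rw [this]
  have hpieceM' : ∀ {x : G}, x ∈ ((piece E C B₁ : Set G) ∪ piece E C B₂) →
      x ∈ centralizer (M : Set G) := fun hx =>
    hx.elim (fun h => hpieceM hB₁ inf_le_left h) fun h => hpieceM hB₂ inf_le_right h
  have hgM : g' ∈ centralizer (M : Set G) := by
    have hg0 : g ∈ centralizer (M : Set G) := mul_mem (hpieceM' q.hv) (hpieceM' q.hv')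
    rcases hg' with rfl | rfl
    · exact hg0
    · exact mul_mem hg0 (mem_centralizer_iff.2 fun m hm =>
        mem_centralizer_singleton_iff.1 (hMz hm))
  have hcM : c ∈ M := mem_sup_right ⟨⟨hcD, mem_centralizer_iff.2 fun d hd => hcc d hd⟩,
    mem_centralizer_singleton_iff.2 (mul_inv_eq_iff_eq_mul.1 hzc).symm⟩
  have hc1 : c = 1 := by
    refine eq_one_of_self_inv hp2 (hDp c hcD) ?_
    conv_rhs => rw [← hgc, ← mem_centralizer_iff.1 hgM c hcM, mul_inv_cancel_right]
  refine ⟨A, z, s', g', u, y, y₂, ⟨hA, hAc, hzA, hHA (hK hs'K), hHA (hK hg'K), huA, hDA hyD,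
    hDA hy₂D, hz, ?_, hs'1, ?_, ?_, elementary_comm hH hzH (hK hs'K),
    elementary_comm hH hzH (hK hg'K), (hcl huC).symm,
    elementary_comm hH (hK hs'K) (hK hg'K), hs'r, hrg', hDp y hyD, hy1, hzy, hKy s' hs'K,
    hKy g' hg'K, hy₂def, commutatorElement_eq_one_iff_mul_comm.1 hc1⟩⟩
  · rw [← pow_two]; exact hH.2 _ (hK hs'K)
  · rw [← pow_two]; exact hH.2 _ (hK hg'K)
  · rw [hu2]; exact hε

end CfsgLib.KlingerMason
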