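import Cfsg.Agent.Lib.PGroup.KlingerMason.Config

/-!
# Klinger–Mason: groups of characteristic `2` type and of local characteristic `p`

The configuration yields an involution centralizing a second group of rank `k`, whose critical
subgroup contains three commuting involutions which, with a fourth one outside, centralize a
subgroup of rank `k - 2`: one more than the rank lemma allows.
-/

set_option autoImplicit false
set_option linter.style.haveILetI false
set_option linter.unusedSectionVars false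

open Subgroup
open CfsgLib.SymplecticHyperplanes (mul_card_le_of_lt elementary_sup_zpowers eq_one_of_self_inv
  mem_of_coprime_pow)

namespace CfsgLib.KlingerMason

variable {G : Type*} [Group G] [Finite G] {p k : ℕ} [hp : Fact p.Prime]

theorem mem_normalizer_of_conj {F : Subgroup G} {ρ : G} (hρ : ρ * ρ = 1)
    (h : ∀ x ∈ F, ρ * x * ρ⁻¹ ∈ F) : ρ ∈ normalizer (F : Set G) := by
  refine mem_normalizer_iff.2 fun x => ⟨h x, fun hx => ?_⟩
  have := h _ hx
  rwa [show ρ * (ρ * x * ρ⁻¹) * ρ⁻¹ = (ρ * ρ) * x * (ρ * ρ)⁻¹ by group, hρ, one_mul, inv_one,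
    mul_one] at this

theorem Config.false {A : Subgroup G} {z s g r y y' : G} (hs : Setup G p k)
    (hc : Config p k A z s g r y y') : False := by
  haveI : Fact (Nat.Prime 2) := ⟨Nat.prime_two⟩
  have hk := hs.three
  have hp2 := hs.odd
  have hA := hc.elem
  have hfixc : ∀ {x a : G}, x * a = a * x → x * a * x⁻¹ = a := fun h => by
    rw [h, mul_inv_cancel_right]
  have hAfix : ∀ {x : G}, x ∈ centralizer (A : Set G) → ∀ a ∈ A, x * a * x⁻¹ = a :=
    fun hx a ha => hfixc (mem_centralizer_iff.1 hx a ha).symm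
  have hy'p : y' ^ p = 1 := by rw [hc.y'def, conj_pow, hc.yp, mul_one, mul_inv_cancel]
  have hy'1 : y' ≠ 1 := fun h => hc.y1 (conj_eq_one_iff.1 (hc.y'def.symm.trans h))
  have hzy' : z * y' * z⁻¹ = y'⁻¹ := by
    calc z * y' * z⁻¹ = (z * r) * y * (z * r)⁻¹ := by rw [hc.y'def]; group
      _ = r * (z * y * z⁻¹) * r⁻¹ := by rw [hc.zr]; group
      _ = y'⁻¹ := by rw [hc.zy, hc.y'def]; group
  have hsy' : s * y' = y' * s := by
    rw [hc.y'def]
    exact (((show Commute s r from hc.sr).mul_right hc.sy).mul_right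
      (show Commute s r from hc.sr).inv_right).eq
  have hzi : z⁻¹ = z := inv_eq_of_mul_eq_one_right hc.z2
  have hgr : g * r = r * (g * z) := by
    have h1 : g * r = r * g * z⁻¹ := by rw [hc.rg]; group
    rw [h1, hzi, mul_assoc]
  have hgy : g * y * g⁻¹ = y := hfixc hc.gy
  have hgy' : g * y' * g⁻¹ = y'⁻¹ := by
    calc g * y' * g⁻¹ = (g * r) * y * (g * r)⁻¹ := by rw [hc.y'def]; group
      _ = r * (g * (z * y * z⁻¹) * g⁻¹) * r⁻¹ := by rw [hgr]; group
      _ = y'⁻¹ := by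
        rw [hc.zy, hfixc (show Commute g y from hc.gy).inv_right.eq, hc.y'def]
        group
  -- the second group of rank `k`
  set U := A ⊔ zpowers y with hUdef
  set F := U ⊔ zpowers y' with hFdef
  have hU : Cfsg.IsElementaryAbelian p U :=
    elementary_sup_zpowers hA hc.yp fun a ha => (mem_centralizer_iff.1 hc.cy a ha).symm
  have hF : Cfsg.IsElementaryAbelian p F := elementary_sup_zpowers hU hy'p fun u hu => by
    have h : U ≤ centralizer ({y'} : Set G) := sup_le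
      (fun a ha => mem_centralizer_singleton_iff.2 (mem_centralizer_iff.1 hc.cy' a ha))
      (zpowers_le.2 (mem_centralizer_singleton_iff.2 hc.yy'))
    exact (mem_centralizer_singleton_iff.1 (h hu)).symm
  have hyF : y ∈ F := mem_sup_left (mem_sup_right (mem_zpowers y))
  have hy'F : y' ∈ F := mem_sup_right (mem_zpowers y')
  have hAF : A ≤ F := le_sup_left.trans le_sup_left
  have hAU : A < U := lt_of_le_of_ne le_sup_left fun e => hc.y1 <| eq_one_of_self_inv hp2 hc.yp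
    ((hAfix hc.cz y (e ▸ mem_sup_right (mem_zpowers y))).symm.trans hc.zy)
  have hgU : U ≤ centralizer ({g} : Set G) := sup_le
    (fun a ha => mem_centralizer_singleton_iff.2 (mem_centralizer_iff.1 hc.cg a ha))
    (zpowers_le.2 (mem_centralizer_singleton_iff.2 hc.gy.symm))
  have hUF : U < F := lt_of_le_of_ne le_sup_left fun e => hy'1 <| eq_one_of_self_inv hp2 hy'p <|
    (hfixc (mem_centralizer_singleton_iff.1 (hgU (e ▸ mem_sup_right (mem_zpowers y')))).symm).symm.trans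
      hgy'
  have hsF : F ≤ centralizer ({s} : Set G) := sup_le (sup_le
    (fun a ha => mem_centralizer_singleton_iff.2 (mem_centralizer_iff.1 hc.cs a ha))
    (zpowers_le.2 (mem_centralizer_singleton_iff.2 hc.sy.symm)))
    (zpowers_le.2 (mem_centralizer_singleton_iff.2 hsy'.symm))
  have hS : IsPGroup 2 (zpowers s) := IsPGroup.of_card (n := 1) (by
    rw [Nat.card_zpowers, orderOf_eq_prime (by rw [pow_two]; exact hc.s2) hc.s1, pow_one])
  have hCs : centralizer ({s} : Set G) ≤ normalizer ((zpowers s : Subgroup G) : Set G) :=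
    fun x hx => CfsgLib.Coprime.centralizer_le_normalizer_self _ (mem_centralizer_iff.2 fun t ht => by
      obtain ⟨i, rfl⟩ := mem_zpowers_iff.1 ht
      exact ((show Commute s x from (mem_centralizer_singleton_iff.1 hx).symm).zpow_left i).eq)
  have hFle : Nat.card F ≤ p ^ k :=
    hs.rank _ F hS (zpowers_ne_bot.2 hc.s1) hF (hsF.trans hCs)
  have hFc : Nat.card F = p ^ k := by
    refine le_antisymm hFle (hc.cardA.trans ?_)
    calc p ^ 2 * Nat.card A = p * (p * Nat.card A) := by ring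
      _ ≤ p * Nat.card U :=
        Nat.mul_le_mul_left p (mul_card_le_of_lt (isPGroup_of_elementary hU) hAU)
      _ ≤ Nat.card F := mul_card_le_of_lt (isPGroup_of_elementary hF) hUF
  obtain ⟨C, z', hf, hsC⟩ := hs.exists_frame hS (zpowers_ne_bot.2 hc.s1) hF hFc (hsF.trans hCs)
  obtain ⟨B, hB, hBc, hne, hyB⟩ := hf.exists_piece hp2 (by omega) hyF hc.y1
  obtain ⟨u₁, hu₁, u₂, hu₂, hu₁₂⟩ := hf.piece_nonabelian hp2 (by omega) hB hBc hne
  have hdec : ∀ f ∈ F, ∃ a ∈ A, ∃ i ∈ zpowers y, ∃ j ∈ zpowers y', f = a * i * j := by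
    intro f hf'
    obtain ⟨u, hu, j, hj, rfl⟩ := CfsgLib.Coprime.mem_sup_exists
      ((le_centralizer_of_le hF (zpowers_le.2 hy'F) le_sup_left).trans
        (CfsgLib.Coprime.centralizer_le_normalizer_self U)) hf'
    obtain ⟨a, ha, i, hi, rfl⟩ := CfsgLib.Coprime.mem_sup_exists
      ((le_centralizer_of_le hF (zpowers_le.2 hyF) hAF).trans
        (CfsgLib.Coprime.centralizer_le_normalizer_self A)) hu
    exact ⟨a, ha, i, hi, j, hj, rfl⟩
  have hnormF : ∀ ρ : G, ρ * ρ = 1 → ρ ∈ centralizer (A : Set G) → ρ * y * ρ⁻¹ ∈ F →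
      ρ * y' * ρ⁻¹ ∈ F → ρ ∈ normalizer (F : Set G) := by
    intro ρ hρ hρA h1 h2
    refine mem_normalizer_of_conj hρ fun x hx => ?_
    have hle : F ≤ F.comap (MulAut.conj ρ).toMonoidHom := sup_le (sup_le
      (fun a ha => by
        show ρ * a * ρ⁻¹ ∈ F
        rw [hAfix hρA a ha]; exact hAF ha) (zpowers_le.2 h1)) (zpowers_le.2 h2)
    exact hle hx
  have hinB : ∀ i ∈ zpowers y, i * i ∈ B → i = 1 := by
    intro i hi hii
    by_contra hi1
    have hip : i ^ p = 1 := hF.2 i (zpowers_le.2 hyF hi)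
    have hiB : i ∈ B := mem_of_coprime_pow (m := 2) (k := p)
      ((Nat.coprime_primes Nat.prime_two hp.out).2 (Ne.symm hp2)) (by rw [pow_two]; exact hii)
      (hip ▸ one_mem B)
    refine hyB (zpowers_le.2 hiB ?_)
    rw [eq_of_le_of_card_ge (zpowers_le.2 hi) (by
      rw [Nat.card_zpowers, Nat.card_zpowers, orderOf_eq_prime hc.yp hc.y1,
        orderOf_eq_prime hip hi1])]
    exact mem_zpowers y
  -- an involution `ρ` and a subgroup `K` of rank `k - 2` of `B`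
  obtain ⟨ρ, K, b₀, hρ2, hρs, hρF, hKB, hKρ, hρK, hKc, hb₀, hb₀B⟩ :
      ∃ ρ : G, ∃ K : Subgroup G, ∃ b₀ : G, ρ * ρ = 1 ∧ s * ρ = ρ * s ∧
        ρ ∈ normalizer (F : Set G) ∧ K ≤ B ∧ (∀ x ∈ K, ρ * x * ρ⁻¹ ∈ B) ∧
        (∀ x ∈ K, ρ * x = x * ρ) ∧ p ^ k ≤ p ^ 2 * Nat.card K ∧
        b₀ ∈ B ∧ ρ * b₀ * ρ⁻¹ ∉ B := by
    set ρ := g * z with hρdef
    have hρ2 : ρ * ρ = 1 := by
      rw [hρdef, show g * z * (g * z) = g * (z * g) * z by group, hc.zg,
        show g * (g * z) * z = (g * g) * (z * z) by group, hc.g2, hc.z2, one_mul]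
    have hρA : ρ ∈ centralizer (A : Set G) := mul_mem hc.cg hc.cz
    have hρy : ρ * y * ρ⁻¹ = y⁻¹ := by
      rw [hρdef, show g * z * y * (g * z)⁻¹ = g * (z * y * z⁻¹) * g⁻¹ by group, hc.zy,
        hfixc (show Commute g y from hc.gy).inv_right.eq]
    have hρy' : ρ * y' * ρ⁻¹ = y' := by
      rw [hρdef, show g * z * y' * (g * z)⁻¹ = g * (z * y' * z⁻¹) * g⁻¹ by group, hzy',
        ← conj_inv, hgy', inv_inv]
    have hρF : ρ ∈ normalizer (F : Set G) :=
      hnormF ρ hρ2 hρA (hρy ▸ inv_mem hyF) (hρy'.symm ▸ hy'F)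
    have hρy'c : ∀ j ∈ zpowers y', ρ * j * ρ⁻¹ = j := fun j hj => by
      obtain ⟨n, rfl⟩ := mem_zpowers_iff.1 hj
      rw [← conj_zpow, hρy']
    have hfix : ∀ b ∈ B, ρ * b * ρ⁻¹ ∈ B → ρ * b = b * ρ ∧ b ∈ A ⊔ zpowers y' := by
      intro b hb hb'
      obtain ⟨a, ha, i, hi, j, hj, rfl⟩ := hdec b (hB hb)
      have hiF : i ∈ F := zpowers_le.2 hyF hi
      have hjF : j ∈ F := zpowers_le.2 hy'F hj
      have hρi : ρ * i * ρ⁻¹ = i⁻¹ := by
        obtain ⟨n, rfl⟩ := mem_zpowers_iff.1 hi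
        rw [← conj_zpow, hρy, inv_zpow]
      have hi1 : i = 1 := hinB i hi (by
        have h : a * i * j * (ρ * (a * i * j) * ρ⁻¹)⁻¹ = i * i := by
          rw [show ρ * (a * i * j) * ρ⁻¹ = (ρ * a * ρ⁻¹) * (ρ * i * ρ⁻¹) * (ρ * j * ρ⁻¹) by group,
            hAfix hρA a ha, hρi, hρy'c j hj]
          calc a * i * j * (a * i⁻¹ * j)⁻¹ = a * (i * i) * a⁻¹ := by group
            _ = i * i := by
              rw [elementary_comm hF (hAF ha) (mul_mem hiF hiF), mul_inv_cancel_right]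
        rw [← h]; exact mul_mem hb (inv_mem hb'))
      subst hi1
      rw [mul_one]
      refine ⟨mul_inv_eq_iff_eq_mul.1 ?_, mul_mem_sup ha hj⟩
      rw [show ρ * (a * j) * ρ⁻¹ = (ρ * a * ρ⁻¹) * (ρ * j * ρ⁻¹) by group, hAfix hρA a ha,
        hρy'c j hj]
    have hρs : s * ρ = ρ * s :=
      ((show Commute s g from hc.sg).mul_right (show Commute s z from hc.zs.symm)).eq
    by_cases hmove : ∃ b ∈ B, ρ * b * ρ⁻¹ ∉ B
    · obtain ⟨b₀, hb₀, hb₀B⟩ := hmove
      have hback : ∀ x ∈ B ⊓ B.map (MulAut.conj ρ).toMonoidHom, ρ * x * ρ⁻¹ ∈ B := by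
        rintro _ ⟨-, b, hb, rfl⟩
        show ρ * (ρ * b * ρ⁻¹) * ρ⁻¹ ∈ B
        rwa [show ρ * (ρ * b * ρ⁻¹) * ρ⁻¹ = (ρ * ρ) * b * (ρ * ρ)⁻¹ by group, hρ2, one_mul,
          inv_one, mul_one]
      refine ⟨ρ, B ⊓ B.map (MulAut.conj ρ).toMonoidHom, b₀, hρ2, hρs, hρF, inf_le_left, ?_, ?_, ?_,
        hb₀, hb₀B⟩
      · exact hback
      · exact fun x hx => (hfix x hx.1 (hback x hx)).1
      · have hmap : B.map (MulAut.conj ρ).toMonoidHom ≤ F := by
          rintro _ ⟨b, hb, rfl⟩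
          exact (mem_normalizer_iff.1 hρF b).1 (hB hb)
        refine hFc ▸ hyperplanes_inf hB hmap hBc ?_
        rw [card_map_of_injective (MulAut.conj ρ).injective]
        exact hBc
    · push Not at hmove
      have hBeq : B = A ⊔ zpowers y' := by
        have hlt : A ⊔ zpowers y' < F := by
          refine lt_of_le_of_ne (sup_le hAF (zpowers_le.2 hy'F)) fun e => hc.y1 ?_
          have h : A ⊔ zpowers y' ≤ centralizer ({ρ} : Set G) := sup_le
            (fun a ha => mem_centralizer_singleton_iff.2 (mem_centralizer_iff.1 hρA a ha))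
            (zpowers_le.2 (mem_centralizer_singleton_iff.2 (mul_inv_eq_iff_eq_mul.1 hρy').symm))
          exact eq_one_of_self_inv hp2 hc.yp
            ((hfixc (mem_centralizer_singleton_iff.1 (h (e ▸ hyF))).symm).symm.trans hρy)
        refine eq_of_le_of_card_ge (fun b hb => (hfix b hb (hmove b hb)).2) ?_
        exact Nat.le_of_mul_le_mul_left
          ((mul_card_le_of_lt (isPGroup_of_elementary hF) hlt).trans hBc.ge) hp.out.pos
      have hy'B : y' ∈ B := hBeq ▸ mem_sup_right (mem_zpowers y')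
      have hgrA : g * r ∈ centralizer (A : Set G) := mul_mem hc.cg hc.cr
      have hry : r * y * r⁻¹ = y' := hc.y'def.symm
      obtain ⟨τ, hτ2, hτs, hτA, hτy, hτy'⟩ : ∃ τ : G, τ * τ = 1 ∧ s * τ = τ * s ∧
          τ ∈ centralizer (A : Set G) ∧ (τ * y * τ⁻¹ = y' ∨ τ * y * τ⁻¹ = y'⁻¹) ∧
          (τ * y' * τ⁻¹ = y ∨ τ * y' * τ⁻¹ = y⁻¹) := by
        have hrr : r * y' * r⁻¹ = (r * r) * y * (r * r)⁻¹ := by rw [hc.y'def]; group
        rcases hc.r2 with h | h
        · exact ⟨r, h, hc.sr, hc.cr, Or.inl hry, Or.inl (by rw [hrr, h, one_mul, inv_one, mul_one])⟩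
        · refine ⟨g * r, ?_, ((show Commute s g from hc.sg).mul_right hc.sr).eq, hgrA, Or.inr ?_,
            Or.inr ?_⟩
          · calc g * r * (g * r) = g * (r * g) * r := by group
              _ = (g * g) * (r * z) * r := by rw [hc.rg]; group
              _ = (r * r) * z := by rw [hc.g2, one_mul, mul_assoc, hc.zr, mul_assoc]
              _ = 1 := by rw [h, hc.z2]
          · rw [show g * r * y * (g * r)⁻¹ = g * (r * y * r⁻¹) * g⁻¹ by group, hry, hgy']
          · rw [show g * r * y' * (g * r)⁻¹ = g * (r * y' * r⁻¹) * g⁻¹ by group, hrr, h, hc.zy,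
              hfixc (show Commute g y from hc.gy).inv_right.eq]
      refine ⟨τ, A, y', hτ2, hτs, hnormF τ hτ2 hτA ?_ ?_, hBeq ▸ le_sup_left,
        fun x hx => by rw [hAfix hτA x hx, hBeq]; exact mem_sup_left hx,
        fun x hx => (mem_centralizer_iff.1 hτA x hx).symm, hc.cardA, hy'B, ?_⟩
      · rcases hτy with h | h <;> rw [h]
        exacts [hy'F, inv_mem hy'F]
      · rcases hτy' with h | h <;> rw [h]
        exacts [hyF, inv_mem hyF]
      · rcases hτy' with h | h <;> rw [h]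
        · exact hyB
        · exact fun h' => hyB (inv_mem_iff.1 h')
  -- four commuting involutions centralizing `K`
  have hρC : ρ ∈ normalizer (C : Set G) :=
    hsC (hCs (mem_centralizer_singleton_iff.2 hρs.symm))
  have hρz := hf.z_fix ρ hρC
  have hu₁B := hf.piece_le hB hu₁
  have hu₂B := hf.piece_le hB hu₂
  have hconjC : ∀ {u : G}, u ∈ C → ρ * u * ρ⁻¹ ∈ C := fun hu => (mem_normalizer_iff.1 hρC _).1 hu
  have horth : ∀ {u v : G}, u ∈ piece F C B → v ∈ piece F C B →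
      (ρ * u * ρ⁻¹) * v = v * (ρ * u * ρ⁻¹) := by
    intro u v hu hv
    have huB := hf.piece_le hB hu
    refine hf.piece_orth hB hBc (hconjC huB.1) ((mem_normalizer_iff.1 hρF b₀).1 (hB hb₀)) hb₀B ?_ hv
    have h : Commute b₀ u := mem_centralizer_iff.1 huB.2 b₀ hb₀
    calc ρ * b₀ * ρ⁻¹ * (ρ * u * ρ⁻¹) = ρ * (b₀ * u) * ρ⁻¹ := by group
      _ = ρ * u * ρ⁻¹ * (ρ * b₀ * ρ⁻¹) := by rw [h.eq]; group
  set w₁ := u₁ * (ρ * u₁ * ρ⁻¹) with hw₁def
  set w₂ := u₂ * (ρ * u₂ * ρ⁻¹) with hw₂def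
  have hwC : ∀ {u : G}, u ∈ piece F C B → u * (ρ * u * ρ⁻¹) ∈ C := fun hu =>
    mul_mem (hf.piece_le hB hu).1 (hconjC (hf.piece_le hB hu).1)
  have hw2 : ∀ {u : G}, u ∈ piece F C B →
      u * (ρ * u * ρ⁻¹) * (u * (ρ * u * ρ⁻¹)) = 1 := by
    intro u hu
    rw [show u * (ρ * u * ρ⁻¹) * (u * (ρ * u * ρ⁻¹)) = u * ((ρ * u * ρ⁻¹) * u) * (ρ * u * ρ⁻¹) by
      group, horth hu hu, show u * (u * (ρ * u * ρ⁻¹)) * (ρ * u * ρ⁻¹) =
        (u * u) * (ρ * (u * u) * ρ⁻¹) by group]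
    rcases hf.piece_sq hB hu with h | h <;> rw [h]
    · group
    · rw [hfixc hρz, hf.z_sq]
  have hρw : ∀ {u : G}, u ∈ piece F C B →
      ρ * (u * (ρ * u * ρ⁻¹)) = u * (ρ * u * ρ⁻¹) * ρ := by
    intro u hu
    refine mul_inv_eq_iff_eq_mul.1 ?_
    rw [show ρ * (u * (ρ * u * ρ⁻¹)) * ρ⁻¹ = (ρ * u * ρ⁻¹) * ((ρ * ρ) * u * (ρ * ρ)⁻¹) by group,
      hρ2, one_mul, inv_one, mul_one, horth hu hu]
  have hwK : ∀ {u : G}, u ∈ piece F C B → ∀ x ∈ K, u * (ρ * u * ρ⁻¹) * x = x * (u * (ρ * u * ρ⁻¹)) := by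
    intro u hu x hx
    have h1 : Commute x u := mem_centralizer_iff.1 (hf.piece_le hB hu).2 x (hKB hx)
    have h2 : Commute x ρ := (hρK x hx).symm
    exact ((h1.mul_right ((h2.mul_right h1).mul_right h2.inv_right)).eq).symm
  have hu₁c : u₁ * u₂ ≠ u₂ * u₁ := fun h => hf.z_ne (by
    rw [h] at hu₁₂
    exact mul_eq_right.1 hu₁₂.symm)
  have hzC : ∀ {x : G}, x ∈ C → x * z' = z' * x := fun hx => hf.z_comm hx
  have hw12 : w₁ * w₂ = w₂ * w₁ := by
    have h' : (ρ * u₁ * ρ⁻¹) * (ρ * u₂ * ρ⁻¹) = z' * ((ρ * u₂ * ρ⁻¹) * (ρ * u₁ * ρ⁻¹)) := by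
      calc (ρ * u₁ * ρ⁻¹) * (ρ * u₂ * ρ⁻¹) = ρ * (u₁ * u₂) * ρ⁻¹ := by group
        _ = (ρ * z' * ρ⁻¹) * ((ρ * u₂ * ρ⁻¹) * (ρ * u₁ * ρ⁻¹)) := by rw [hu₁₂]; group
        _ = _ := by rw [hfixc hρz]
    calc w₁ * w₂ = u₁ * ((ρ * u₁ * ρ⁻¹) * u₂) * (ρ * u₂ * ρ⁻¹) := by
          rw [hw₁def, hw₂def]; group
      _ = (u₁ * u₂) * ((ρ * u₁ * ρ⁻¹) * (ρ * u₂ * ρ⁻¹)) := by rw [horth hu₁ hu₂]; group
      _ = z' * ((u₂ * u₁) * z') * ((ρ * u₂ * ρ⁻¹) * (ρ * u₁ * ρ⁻¹)) := by rw [hu₁₂, h']; group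
      _ = (z' * z') * (u₂ * (u₁ * (ρ * u₂ * ρ⁻¹)) * (ρ * u₁ * ρ⁻¹)) := by
          rw [hzC (mul_mem hu₂B.1 hu₁B.1)]; group
      _ = w₂ * w₁ := by rw [hf.z_sq, one_mul, ← horth hu₂ hu₁, hw₁def, hw₂def]; group
  have hbase : Cfsg.IsElementaryAbelian 2 (zpowers z') := by
    refine ⟨inferInstance, fun a ha => ?_⟩
    obtain ⟨i, rfl⟩ := mem_zpowers_iff.1 ha
    rw [← zpow_natCast, ← zpow_mul, mul_comm, zpow_mul, zpow_natCast, pow_two, hf.z_sq, one_zpow]
  have hcent : ∀ {X : Subgroup G} {t : G}, X ≤ centralizer ({t} : Set G) →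
      ∀ x ∈ X, t * x = x * t := fun h x hx => (mem_centralizer_singleton_iff.1 (h hx)).symm
  have hzt : ∀ {t : G}, z' * t = t * z' → zpowers z' ≤ centralizer ({t} : Set G) :=
    fun h => zpowers_le.2 (mem_centralizer_singleton_iff.2 h)
  set X₂ := zpowers z' ⊔ zpowers w₁ with hX₂
  set X₃ := X₂ ⊔ zpowers w₂ with hX₃
  set X₄ := X₃ ⊔ zpowers ρ with hX₄
  have hX₂e : Cfsg.IsElementaryAbelian 2 X₂ := elementary_sup_zpowers hbase
    (by rw [pow_two]; exact hw2 hu₁) (hcent (hzt (hzC (hwC hu₁)).symm))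
  have hX₃e : Cfsg.IsElementaryAbelian 2 X₃ := elementary_sup_zpowers hX₂e
    (by rw [pow_two]; exact hw2 hu₂) (hcent (sup_le (hzt (hzC (hwC hu₂)).symm)
      (zpowers_le.2 (mem_centralizer_singleton_iff.2 hw12))))
  have hX₄e : Cfsg.IsElementaryAbelian 2 X₄ := elementary_sup_zpowers hX₃e
    (by rw [pow_two]; exact hρ2) (hcent (sup_le (sup_le (hzt hρz.symm)
      (zpowers_le.2 (mem_centralizer_singleton_iff.2 (hρw hu₁).symm)))
      (zpowers_le.2 (mem_centralizer_singleton_iff.2 (hρw hu₂).symm))))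
  have hX₃C : X₃ ≤ C :=
    sup_le (sup_le (zpowers_le.2 hf.z_mem) (zpowers_le.2 (hwC hu₁))) (zpowers_le.2 (hwC hu₂))
  have h12 : zpowers z' < X₂ := lt_of_le_of_ne le_sup_left fun e => hu₁c (by
    have hwu : w₁ * u₂ = u₂ * w₁ := mem_centralizer_singleton_iff.1
      ((hzt (hzC hu₂B.1).symm : zpowers z' ≤ centralizer ({u₂} : Set G))
        (e ▸ mem_sup_right (mem_zpowers w₁)))
    have h2 : Commute (w₁ * (ρ * u₁ * ρ⁻¹)⁻¹) u₂ :=
      (show Commute w₁ u₂ from hwu).mul_left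
        (show Commute (ρ * u₁ * ρ⁻¹) u₂ from horth hu₁ hu₂).inv_left
    rwa [hw₁def, mul_inv_cancel_right] at h2)
  have h23 : X₂ < X₃ := lt_of_le_of_ne le_sup_left fun e => hu₁c (by
    have hX₂u : X₂ ≤ centralizer ({u₁} : Set G) := sup_le (hzt (hzC hu₁B.1).symm)
      (zpowers_le.2 (mem_centralizer_singleton_iff.2
        ((Commute.refl u₁).mul_left (horth hu₁ hu₁)).eq))
    have hwu : w₂ * u₁ = u₁ * w₂ :=
      mem_centralizer_singleton_iff.1 (hX₂u (e ▸ mem_sup_right (mem_zpowers w₂)))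
    have h2 : Commute (w₂ * (ρ * u₂ * ρ⁻¹)⁻¹) u₁ :=
      (show Commute w₂ u₁ from hwu).mul_left
        (show Commute (ρ * u₂ * ρ⁻¹) u₁ from horth hu₂ hu₁).inv_left
    rw [hw₂def, mul_inv_cancel_right] at h2
    exact h2.eq.symm)
  have h34 : X₃ < X₄ := lt_of_le_of_ne le_sup_left fun e => hu₁c (by
    have hρC' : ρ ∈ C := hX₃C (e ▸ mem_sup_right (mem_zpowers ρ))
    rcases hf.comm ρ hρC' u₁ hu₁B.1 with h | h
    · exact hfixc h ▸ horth hu₁ hu₂
    · have h2 : Commute (z' * (ρ * u₁ * ρ⁻¹)) u₂ :=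
        (show Commute z' u₂ from (hzC hu₂B.1).symm).mul_left (horth hu₁ hu₂)
      rw [show ρ * u₁ * ρ⁻¹ = z' * u₁ by rw [h]; group, ← mul_assoc, hf.z_sq, one_mul] at h2
      exact h2)
  obtain ⟨h, hh⟩ := exists_card_pow hX₄e
  have h4 : 4 ≤ h := by
    have hp4 := isPGroup_of_elementary hX₄e
    have e1 := mul_card_le_of_lt (p := 2) (hp4.to_le le_sup_left) h23
    have e2 := mul_card_le_of_lt (p := 2) (hp4.to_le (le_sup_left.trans le_sup_left)) h12
    have e3 := mul_card_le_of_lt (p := 2) hp4 h34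
    rw [Nat.card_zpowers, orderOf_eq_prime (by rw [pow_two]; exact hf.z_sq) hf.z_ne] at e2
    have : 2 ^ 4 ≤ 2 ^ h := by omega
    exact (Nat.pow_le_pow_iff_right one_lt_two).1 this
  obtain ⟨a, ha⟩ := exists_card_pow (elementary_mono hF (hKB.trans hB))
  have hka : k ≤ 2 + a := by
    rw [ha, ← pow_add] at hKc
    exact (Nat.pow_le_pow_iff_right hp.out.one_lt).1 hKc
  have hXK : X₄ ≤ centralizer (K : Set G) := sup_le (sup_le (sup_le
    (zpowers_le.2 (mem_centralizer_iff.2 fun x hx => hf.z_fix x (hf.normE (hB (hKB hx)))))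
    (zpowers_le.2 (mem_centralizer_iff.2 fun x hx => (hwK hu₁ x hx).symm)))
    (zpowers_le.2 (mem_centralizer_iff.2 fun x hx => (hwK hu₂ x hx).symm)))
    (zpowers_le.2 (mem_centralizer_iff.2 fun x hx => (hρK x hx).symm))
  have := hs.rank_add (elementary_mono hF (hKB.trans hB)) ha (by omega) hX₄e hXK hh (by omega)
  omega

/-- If `G` has local characteristic `p` and characteristic 2 type, its 2-locals have `p`-rank at
most 2. -/
theorem twoLocalPRankLE (hp2 : p ≠ 2) (hGp : Cfsg.IsOfLocalCharacteristic p G)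
    (hG2 : Cfsg.IsCharacteristicTwoType G) : Cfsg.TwoLocalPRankLE p 2 G := by
  classical
  by_contra hno
  simp only [Cfsg.TwoLocalPRankLE, Cfsg.PRankLE, not_forall, not_le] at hno
  obtain ⟨N, ⟨T, hT, hT1, rfl⟩, A, hAc, hAe, hA⟩ := hno
  let P : ℕ → Prop := fun e => ∃ R E : Subgroup G, IsPGroup 2 R ∧ R ≠ ⊥ ∧
    Cfsg.IsElementaryAbelian p E ∧ E ≤ normalizer (R : Set G) ∧ Nat.card E = p ^ e
  have hbound : ∀ e, P e → e ≤ Nat.card G := by
    rintro e ⟨R, E, -, -, -, -, hE⟩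
    calc e ≤ p ^ e := (Nat.lt_pow_self hp.out.one_lt).le
      _ ≤ Nat.card G := hE ▸ Nat.le_of_dvd Nat.card_pos (card_subgroup_dvd_card E)
  set A' := A.map (normalizer (T : Set G)).subtype with hA'def
  have hA'e : Cfsg.IsElementaryAbelian p A' := by
    haveI := hAc
    refine ⟨inferInstance, ?_⟩
    rintro _ ⟨a, ha, rfl⟩
    rw [← map_pow, hAe a ha, map_one]
  obtain ⟨e, he⟩ := exists_card_pow hA'e
  have hPe : P e := ⟨T, A', hT, hT1, hA'e, map_subtype_le A, he⟩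
  have he3 : 3 ≤ e := by
    rw [hA'def, card_subtype] at he
    rw [he] at hA
    exact (Nat.pow_lt_pow_iff_right hp.out.one_lt).1 hA
  set k := Nat.findGreatest P (Nat.card G) with hkdef
  have hek : e ≤ k := Nat.le_findGreatest (hbound e hPe) hPe
  obtain ⟨R, E, hR, hR1, hE, hER, hEc⟩ : P k := Nat.findGreatest_spec (hbound e hPe) hPe
  have hs : Setup G p k := ⟨hp2, by omega, hGp, hG2, fun R' E' hR' hR1' hE' hER' => by
    obtain ⟨e', he'⟩ := exists_card_pow hE'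
    rw [he']
    have hP' : P e' := ⟨R', E', hR', hR1', hE', hER', he'⟩
    exact Nat.pow_le_pow_right hp.out.pos (Nat.le_findGreatest (hbound e' hP') hP')⟩
  obtain ⟨A'', z, s, g, r, y, y', hc⟩ := hs.exists_config hR hR1 hE hEc hER
  exact hc.false hs

end CfsgLib.KlingerMason
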