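import Cfsg.Agent.Lib.PGroup.KlingerMason.Rank

/-!
# The critical two-group of a 2-local of largest `p`-rank

If `E` is elementary of order `p ^ k` and normalizes a nontrivial 2-group `R`, a critical subgroup
`C` of `O₂(N(R))` has a centre with a single involution `z`, and `E` centralizes that centre.
-/

set_option autoImplicit false
set_option linter.style.haveILetI false
set_option linter.unusedSectionVars false

open Subgroup
open scoped commutatorElement
open CfsgLib.SymplecticHyperplanes (mul_card_le_of_lt)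

namespace CfsgLib.KlingerMason

/-- A two-group of class two acted on faithfully by `E`, whose centre has one involution `z`. -/
structure Frame {G : Type*} [Group G] (p k : ℕ) (E C : Subgroup G) (z : G) : Prop where
  elem : Cfsg.IsElementaryAbelian p E
  cardE : Nat.card E = p ^ k
  two : IsPGroup 2 C
  normE : E ≤ normalizer (C : Set G)
  faithful : ∀ e ∈ E, e ∈ centralizer (C : Set G) → e = 1
  z_mem : z ∈ C
  z_ne : z ≠ 1
  z_sq : z * z = 1
  z_fix : ∀ g ∈ normalizer (C : Set G), g * z = z * g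
  invol : ∀ x ∈ C, x ∈ centralizer (C : Set G) → x * x = 1 → x = 1 ∨ x = z
  centre : C ⊓ centralizer (C : Set G) ≤ centralizer (E : Set G)
  sq : ∀ c ∈ C, c * c ∈ centralizer (C : Set G)
  comm : ∀ c ∈ C, ∀ d ∈ C, c * d = d * c ∨ c * d = z * (d * c)

variable {G : Type*} [Group G] [Finite G] {p k : ℕ} [hp : Fact p.Prime]

/-- The critical subgroup before its centre is known. -/
theorem Setup.exists_critical_local (hs : Setup G p k) {R E : Subgroup G} (hR : IsPGroup 2 R)
    (hR1 : R ≠ ⊥) (hE : Cfsg.IsElementaryAbelian p E) (hER : E ≤ normalizer (R : Set G)) :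
    ∃ C : Subgroup G, IsPGroup 2 C ∧ normalizer (R : Set G) ≤ normalizer (C : Set G) ∧
      (∀ c ∈ C, c * c ∈ C ⊓ centralizer (C : Set G)) ∧
      ⁅C, C⁆ ≤ C ⊓ centralizer (C : Set G) ∧
      ∀ e ∈ E, e ∈ centralizer (C : Set G) → e = 1 := by
  haveI : Fact (Nat.Prime 2) := ⟨Nat.prime_two⟩
  set N := normalizer (R : Set G) with hNdef
  set T := Cfsg.pCoreOf 2 N with hTdef
  have hT : IsPGroup 2 T := CfsgLib.LS.pCoreOf_isPGroup _
  have hNT : N ≤ normalizer (T : Set G) :=
    le_normalizer.trans (CfsgLib.LS.normalizer_le_normalizer_pCoreOf _)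
  obtain ⟨C₀, ⟨hchar, hpow, hcc, hPC⟩, hcen⟩ := CfsgLib.CFun.exists_critical hT
  haveI := hchar
  set C := C₀.map T.subtype with hCdef
  have hmc : ∀ {x : T}, x ∈ centralizer (C₀ : Set T) → (x : G) ∈ centralizer (C : Set G) := by
    intro x hx
    refine mem_centralizer_iff.2 ?_
    rintro _ ⟨c, hc, rfl⟩
    exact congrArg Subtype.val (mem_centralizer_iff.1 hx c hc)
  refine ⟨C, hT.to_le (map_subtype_le _), hNT.trans
    (CfsgLib.PGroup.normalizer_le_normalizer_map_char T C₀), ?_, ?_, ?_⟩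
  · rintro _ ⟨c, hc, rfl⟩
    have h := hpow c hc
    rw [pow_two] at h
    exact ⟨⟨_, h.1, map_mul _ _ _⟩, map_mul T.subtype c c ▸ hmc h.2⟩
  · rw [hCdef, ← map_commutator]
    rintro _ ⟨x, hx, rfl⟩
    exact ⟨⟨x, (hPC (commutator_mono le_top le_rfl hx)).1, rfl⟩, hmc (hcc hx)⟩
  · intro e he heC
    have heN := hER he
    have heT : e ∈ normalizer (T : Set G) := hNT heN
    set φ : MulAut T := Subgroup.normalizerMonoidHom T ⟨e, heT⟩ with hφdef
    have hφ : ∀ y : T, ((φ y : T) : G) = e * y * e⁻¹ := fun y => rfl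
    have hop : orderOf e ∣ p := orderOf_dvd_of_pow_eq_one (hE.2 e he)
    have hφ1 : φ = 1 := CfsgLib.CFun.eq_one_of_fixes_critical hT (hPC.trans inf_le_left) hcen φ
      (Nat.Coprime.coprime_dvd_left ((orderOf_map_dvd _ _).trans
        (by rw [Subgroup.orderOf_mk]; exact hop))
        ((Nat.coprime_primes hp.out Nat.prime_two).2 hs.odd))
      fun c hc => Subtype.ext ((hφ c).trans (mul_inv_eq_iff_eq_mul.2
        (mem_centralizer_iff.1 heC _ ⟨c, hc, rfl⟩).symm))
    have heT' : e ∈ centralizer (T : Set G) := mem_centralizer_iff.2 fun y hy => by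
      have h := hφ ⟨y, hy⟩
      rw [hφ1, MulAut.one_apply] at h
      exact (mul_inv_eq_iff_eq_mul.1 h.symm).symm
    have heT2 : e ∈ T := (CfsgLib.LS.charP_iff N).1 (hs.loc2.2 R hR hR1) ⟨heN, heT'⟩
    exact disjoint_def.1 (IsPGroup.disjoint_of_ne p 2 hs.odd _ _ (isPGroup_of_elementary hE) hT)
      he heT2

/-- The involutions of an abelian subgroup. -/
theorem exists_omega {Z : Subgroup G} (hZ : ∀ a ∈ Z, ∀ b ∈ Z, a * b = b * a) :
    ∃ D : Subgroup G, Cfsg.IsElementaryAbelian 2 D ∧ D ≤ Z ∧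
      ∀ x, x ∈ D ↔ x ∈ Z ∧ x * x = 1 := by
  let D : Subgroup G :=
    { carrier := {x | x ∈ Z ∧ x * x = 1}
      one_mem' := ⟨one_mem Z, mul_one 1⟩
      mul_mem' := fun {a b} ha hb => ⟨mul_mem ha.1 hb.1, by
        rw [show a * b * (a * b) = a * (b * a) * b by group, hZ b hb.1 a ha.1,
          show a * (a * b) * b = (a * a) * (b * b) by group, ha.2, hb.2, mul_one]⟩
      inv_mem' := fun {a} ha => ⟨inv_mem ha.1, by rw [← mul_inv_rev, ha.2, inv_one]⟩ }
  exact ⟨D, ⟨isMulCommutative_iff.2 fun a b => Subtype.ext (hZ a a.2.1 b b.2.1),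
    fun a ha => by rw [pow_two]; exact ha.2⟩, fun x hx => hx.1, fun x => Iff.rfl⟩

theorem exists_involution {D : Subgroup G} (hD : IsPGroup 2 D) (hD1 : D ≠ ⊥) :
    ∃ x ∈ D, x * x = 1 ∧ x ≠ 1 := by
  haveI : Fact (Nat.Prime 2) := ⟨Nat.prime_two⟩
  obtain ⟨n, hn⟩ := IsPGroup.iff_card.1 hD
  have hn0 : n ≠ 0 := fun e => hD1 (eq_bot_of_card_eq D (by rw [hn, e, pow_zero]))
  obtain ⟨x, hx⟩ := exists_prime_orderOf_dvd_card' 2 (G := D) (by rw [hn]; exact dvd_pow_self 2 hn0)
  refine ⟨x, x.2, ?_, fun e => ?_⟩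
  · rw [← pow_two, ← hx, ← Subgroup.orderOf_coe, pow_orderOf_eq_one]
  · rw [← Subgroup.orderOf_coe, e, orderOf_one] at hx
    omega

/-- A moved piece of a small elementary two-group is a four-group without fixed points. -/
theorem Setup.moved_piece (hs : Setup G p k) {E A X : Subgroup G}
    (hE : Cfsg.IsElementaryAbelian p E) (hEc : Nat.card E = p ^ k) (hA : A ≤ E)
    (hAc : p * Nat.card A = Nat.card E) (hX : Cfsg.IsElementaryAbelian 2 X)
    (hXA : X ≤ centralizer (A : Set G)) (hEX : E ≤ normalizer (X : Set G))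
    (hmove : ¬ X ≤ centralizer (E : Set G)) :
    Nat.card X = 4 ∧ ∀ x ∈ X, x ∈ centralizer (E : Set G) → x = 1 := by
  haveI : Fact (Nat.Prime 2) := ⟨Nat.prime_two⟩
  have hk := hs.three
  obtain ⟨x, hx, e, he, hne⟩ : ∃ x ∈ X, ∃ e ∈ E, e * x ≠ x * e := by
    by_contra hno
    push Not at hno
    exact hmove fun x hx => mem_centralizer_iff.2 fun e he => hno x hx e he
  have hAc' : Nat.card A = p ^ (k - 1) := by
    refine Nat.eq_of_mul_eq_mul_left hp.out.pos ?_
    rw [hAc, hEc, ← pow_succ']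
    congr 1
    omega
  obtain ⟨h, hh⟩ := exists_card_pow hX
  have hconj : e * x * e⁻¹ ∈ X := (mem_normalizer_iff.1 (hEX he) x).1 hx
  have hx1 : x ≠ 1 := fun e' => hne (by rw [e', mul_one, one_mul])
  have h4 : 4 ≤ Nat.card X := CfsgLib.SymplecticHyperplanes.four_le_card hX hx hconj hx1 fun hz => by
    rcases (Nat.dvd_prime Nat.prime_two).1 (orderOf_dvd_of_pow_eq_one (hX.2 x hx)) with h1 | h1
    · exact hx1 (orderOf_eq_one_iff.1 h1)
    · obtain ⟨i, hi⟩ := mem_zpowers_iff.1 hz
      rw [← zpow_mod_orderOf, h1] at hi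
      rcases Int.emod_two_eq_zero_or_one i with hi0 | hi0 <;> rw [Nat.cast_ofNat, hi0] at hi
      · rw [zpow_zero] at hi
        exact hx1 (conj_eq_one_iff.1 hi.symm)
      · rw [zpow_one] at hi
        exact hne (mul_inv_eq_iff_eq_mul.1 hi.symm)
  have h1 : 1 ≤ h := by
    by_contra hc
    rw [show h = 0 by omega, pow_zero] at hh
    omega
  have h2 : h ≤ 2 := by
    have := hs.rank_add (elementary_mono hE hA) hAc' (by omega) hX hXA hh h1
    omega
  have h4' : Nat.card X = 4 := by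
    have : 2 ^ h ≤ 2 ^ 2 := Nat.pow_le_pow_right two_pos h2
    omega
  refine ⟨h4', fun y hy hyE => (CfsgLib.SymplecticHyperplanes.four_group_action hs.odd hX h4'
    (hE.2 e he) (hEX he) hx (fun e' => hne (mul_inv_eq_iff_eq_mul.1 e'))).2.1 y hy
    (mem_centralizer_iff.1 hyE e he)⟩

/-- Two moved pieces meeting trivially are too large. -/
theorem Setup.two_pieces (hs : Setup G p k) {E A A' X Y : Subgroup G}
    (hE : Cfsg.IsElementaryAbelian p E) (hEc : Nat.card E = p ^ k)
    (hA : A ≤ E) (hAc : p * Nat.card A = Nat.card E)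
    (hA' : A' ≤ E) (hAc' : p * Nat.card A' = Nat.card E)
    (hX : Cfsg.IsElementaryAbelian 2 X) (hXA : X ≤ centralizer (A : Set G))
    (hY : Cfsg.IsElementaryAbelian 2 Y) (hYA : Y ≤ centralizer (A' : Set G))
    (hXY : ∀ x ∈ X, ∀ y ∈ Y, x * y = y * x) (hdisj : X ⊓ Y = ⊥)
    (hX4 : Nat.card X = 4) (hY4 : Nat.card Y = 4) : False := by
  haveI : Fact (Nat.Prime 2) := ⟨Nat.prime_two⟩
  have hk := hs.three
  obtain ⟨a, ha⟩ := exists_card_pow (elementary_mono hE (inf_le_left.trans hA : A ⊓ A' ≤ E))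
  have hka : k ≤ 2 + a := by
    have := hyperplanes_inf hA hA' hAc hAc'
    rw [hEc, ha, ← pow_add] at this
    exact (Nat.pow_le_pow_iff_right hp.out.one_lt).1 this
  have hYn : Y ≤ normalizer (X : Set G) :=
    le_trans (fun y hy => mem_centralizer_iff.2 fun x hx => hXY x hx y hy)
      (CfsgLib.Coprime.centralizer_le_normalizer_self X)
  have hS : Cfsg.IsElementaryAbelian 2 (X ⊔ Y : Subgroup G) := by
    refine ⟨isMulCommutative_iff.2 fun u v => Subtype.ext ?_, fun u hu => ?_⟩
    · obtain ⟨x, hx, y, hy, hu⟩ := CfsgLib.Coprime.mem_sup_exists hYn u.2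
      obtain ⟨x', hx', y', hy', hv⟩ := CfsgLib.Coprime.mem_sup_exists hYn v.2
      show (u : G) * v = v * u
      rw [← hu, ← hv]
      exact ((Commute.mul_right (elementary_comm hX hx hx') (hXY x hx y' hy')).mul_left
        (Commute.mul_right (hXY x' hx' y hy).symm (elementary_comm hY hy hy'))).eq
    · obtain ⟨x, hx, y, hy, rfl⟩ := CfsgLib.Coprime.mem_sup_exists hYn hu
      rw [(show Commute x y from hXY x hx y hy).mul_pow, hX.2 x hx, hY.2 y hy, mul_one]
  have := hs.rank_add (elementary_mono hE (inf_le_left.trans hA)) ha (by omega) hS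
    (sup_le (hXA.trans (centralizer_le inf_le_left)) (hYA.trans (centralizer_le inf_le_right)))
    (h := 4) (by rw [CfsgLib.CFun.ZLen.card_sup_eq hYn hdisj, hX4, hY4]; norm_num) (by norm_num)
  omega

/-- The structure of the critical subgroup. -/
theorem Setup.exists_frame (hs : Setup G p k) {R E : Subgroup G} (hR : IsPGroup 2 R)
    (hR1 : R ≠ ⊥) (hE : Cfsg.IsElementaryAbelian p E) (hEc : Nat.card E = p ^ k)
    (hER : E ≤ normalizer (R : Set G)) :
    ∃ C z, Frame p k E C z ∧ normalizer (R : Set G) ≤ normalizer (C : Set G) := by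
  haveI : Fact (Nat.Prime 2) := ⟨Nat.prime_two⟩
  have hk := hs.three
  have hp2 := hs.odd
  obtain ⟨C, hC2, hRC, hsq, hcom, hfaith⟩ := hs.exists_critical_local hR hR1 hE hER
  have hEC : E ≤ normalizer (C : Set G) := hER.trans hRC
  set Z := C ⊓ centralizer (C : Set G) with hZdef
  have hCZ : normalizer (C : Set G) ≤ normalizer (Z : Set G) :=
    CfsgLib.Coprime.inf_le_normalizer le_rfl
      (CfsgLib.Coprime.normalizer_le_normalizer_centralizer C)
  have hZc : ∀ x ∈ Z, ∀ c ∈ C, x * c = c * x := fun x hx c hc =>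
    (mem_centralizer_iff.1 hx.2 c hc).symm
  obtain ⟨D, hD, hDZ, hDmem⟩ := exists_omega (Z := Z) fun a ha b hb => hZc a ha b hb.1
  have hDn : normalizer (C : Set G) ≤ normalizer (D : Set G) := by
    refine le_normalizer_iff.2 fun g hg x hx => ?_
    obtain ⟨hxZ, hxx⟩ := (hDmem x).1 hx
    exact (hDmem _).2 ⟨(mem_normalizer_iff.1 (hCZ hg) x).1 hxZ, by
      rw [show g * x * g⁻¹ * (g * x * g⁻¹) = g * (x * x) * g⁻¹ by group, hxx]; group⟩
  have hE2 : p ^ 2 ≤ Nat.card E := hEc ▸ Nat.pow_le_pow_right hp.out.pos (by omega)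
  have hDp : IsPGroup 2 D := isPGroup_of_elementary hD
  have hDC : ∀ {A : Subgroup G}, A ≤ E →
      E ≤ normalizer ((D ⊓ centralizer (A : Set G) : Subgroup G) : Set G) :=
    fun hA => inf_centralizer_le_normalizer hE hA (hEC.trans hDn)
  -- coprime action on the centre
  have hlift : ∀ {A : Subgroup G}, A ≤ E → D ≤ centralizer (A : Set G) →
      Z ≤ centralizer (A : Set G) := by
    intro A hA hDA
    have hAn : A ≤ normalizer (Z : Set G) := hA.trans (hEC.trans hCZ)
    have hbot := CfsgLib.Coprime.centralizer_inf_commutator_eq_bot (V := Z)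
      (isMulCommutative_iff.2 fun a b => Subtype.ext (hZc a a.2 b b.2.1)) hAn
      (coprime_card hp2 ((isPGroup_of_elementary hE).to_le hA) (hC2.to_le inf_le_left))
    rw [← commutator_eq_bot_iff_le_centralizer]
    by_contra hne
    have hle : ⁅Z, A⁆ ≤ Z := by
      rw [commutator_le]
      intro x hx a ha
      rw [commutatorElement_def, show x * a * x⁻¹ * a⁻¹ = x * (a * x⁻¹ * a⁻¹) by group]
      exact mul_mem hx ((mem_normalizer_iff.1 (hAn ha) _).1 (inv_mem hx))
    obtain ⟨x, hx, hxx, hx1⟩ := exists_involution ((hC2.to_le inf_le_left).to_le hle) hne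
    exact hx1 (mem_bot.1 (hbot.le ⟨⟨hle hx, hDA ((hDmem x).2 ⟨hle hx, hxx⟩)⟩, hx⟩))
  have hDE : D ≤ centralizer (E : Set G) := by
    by_contra hno
    obtain ⟨A, hA, hAc, hDA⟩ := exists_hyperplane_not_le hE hE2 (not_dvd_card hp2 hDp)
      (hEC.trans hDn) hno
    obtain ⟨hDA4, hDAfix⟩ := hs.moved_piece hE hEc hA hAc (elementary_mono hD inf_le_left)
      inf_le_right (hDC hA) hDA
    -- `A` centralizes `D`
    have hDAall : D ≤ centralizer (A : Set G) := by
      by_contra hno'
      obtain ⟨A', hA', hAc', hDA'⟩ := exists_hyperplane_not_le hE hE2 (not_dvd_card hp2 hDp)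
        (hEC.trans hDn) hno'
      obtain ⟨hDA'4, -⟩ := hs.moved_piece hE hEc hA' hAc' (elementary_mono hD inf_le_left)
        inf_le_right (hDC hA') fun h => hDA' (h.trans (centralizer_le hA))
      have hAA' : ¬ A' ≤ A := fun h => hDA' (inf_le_right.trans (by
        rw [eq_of_le_of_card_ge h (Nat.le_of_mul_le_mul_left (hAc'.symm ▸ hAc.le) hp.out.pos)]))
      have hsup := hyperplanes_sup hE hA hA' hAc hAA'
      refine hs.two_pieces hE hEc hA hAc hA' hAc' (elementary_mono hD inf_le_left) inf_le_right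
        (elementary_mono hD inf_le_left) inf_le_right
        (fun x hx y hy => elementary_comm hD hx.1 hy.1) ?_ hDA4 hDA'4
      rw [eq_bot_iff]
      intro x hx
      refine mem_bot.2 (hDAfix x hx.1 ?_)
      rw [← hsup]
      exact mem_centralizer_iff.2 fun e he => mem_centralizer_singleton_iff.1
        ((sup_le (fun a ha => mem_centralizer_singleton_iff.2 (mem_centralizer_iff.1 hx.1.2 a ha))
          (fun b hb => mem_centralizer_singleton_iff.2 (mem_centralizer_iff.1 hx.2.2 b hb))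
          : A ⊔ A' ≤ centralizer ({x} : Set G)) he)
    have hA1 : A ≠ ⊥ := by
      intro e
      rw [e, card_bot, hEc, mul_one] at hAc
      have : 1 = k := Nat.pow_right_injective hp.out.two_le ((pow_one p).trans hAc)
      omega
    have hCA : ¬ C ≤ centralizer (A : Set G) := fun h => hA1 ((eq_bot_iff_forall A).2 fun a ha =>
      hfaith a (hA ha) (le_centralizer_iff.1 h ha))
    obtain ⟨B, hB, hBc, hCB⟩ := exists_hyperplane_not_le hE hE2 (not_dvd_card hp2 hC2) hEC hCA
    have hAB : ¬ B ≤ A := fun h => hCB (inf_le_right.trans (by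
      rw [eq_of_le_of_card_ge h (Nat.le_of_mul_le_mul_left (hBc.symm ▸ hAc.le) hp.out.pos)]))
    have hsup := hyperplanes_sup hE hA hB hAc hAB
    set X := C ⊓ centralizer (B : Set G) with hXdef
    have hXD : ∀ x ∈ X, x ∈ D → x = 1 := fun x hx hxD => hDAfix x ⟨hxD, hDAall hxD⟩ (by
      rw [← hsup]
      exact mem_centralizer_iff.2 fun e he => (mem_centralizer_singleton_iff.1
        ((sup_le (fun a ha => mem_centralizer_singleton_iff.2
          (mem_centralizer_iff.1 (hDAall hxD) a ha))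
          (fun b hb => mem_centralizer_singleton_iff.2 (mem_centralizer_iff.1 hx.2 b hb))
          : A ⊔ B ≤ centralizer ({x} : Set G)) he)))
    have hXZ : X ⊓ Z = ⊥ := by
      by_contra hne
      obtain ⟨x, hx, hxx, hx1⟩ := exists_involution (hC2.to_le (inf_le_left.trans inf_le_left)) hne
      exact hx1 (hXD x hx.1 ((hDmem x).2 ⟨hx.2, hxx⟩))
    have hXel : Cfsg.IsElementaryAbelian 2 X := by
      refine ⟨isMulCommutative_iff.2 fun a b => Subtype.ext ?_, fun a ha => ?_⟩
      · have hab : ⁅(a : G), (b : G)⁆ ∈ X :=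
          mul_mem (mul_mem (mul_mem a.2 b.2) (inv_mem a.2)) (inv_mem b.2)
        exact commutatorElement_eq_one_iff_mul_comm.1 (mem_bot.1 (hXZ.le
          ⟨hab, hcom (commutator_mem_commutator a.2.1 b.2.1)⟩))
      · rw [pow_two]
        exact mem_bot.1 (hXZ.le ⟨mul_mem ha ha, hsq a ha.1⟩)
    obtain ⟨hX4, -⟩ := hs.moved_piece hE hEc hB hBc hXel inf_le_right
      (inf_centralizer_le_normalizer hE hB hEC) fun h => hCB (h.trans (centralizer_le hA))
    refine hs.two_pieces hE hEc hA hAc hB hBc (elementary_mono hD inf_le_left) inf_le_right hXel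
      inf_le_right (fun x hx y hy => hZc x (hDZ hx.1) y hy.1) ?_ hDA4 hX4
    rw [eq_bot_iff]
    exact fun x hx => mem_bot.2 (hXD x hx.2 hx.1.1)
  have hC1 : C ≠ ⊥ := by
    intro e
    have : E = ⊥ := (eq_bot_iff_forall E).2 fun x hx => hfaith x hx (by
      refine mem_centralizer_iff.2 fun c hc => ?_
      rw [e] at hc
      rw [mem_bot.1 hc, one_mul, mul_one])
    rw [this, card_bot] at hEc
    exact (Nat.one_lt_pow (by omega) hp.out.one_lt).ne hEc
  obtain ⟨z, hz, hzz, hz1⟩ : ∃ z ∈ Z, z * z = 1 ∧ z ≠ 1 := by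
    refine exists_involution (hC2.to_le inf_le_left) fun hbot => ?_
    haveI : Nontrivial C := (Subgroup.nontrivial_iff_ne_bot C).2 hC1
    haveI := hC2.center_nontrivial
    obtain ⟨c, hc⟩ := exists_ne (1 : center C)
    exact hc (Subtype.ext (Subtype.ext (mem_bot.1 (hbot.le (show ((c : C) : G) ∈ Z from
      ⟨(c : C).2, mem_centralizer_iff.2 fun d hd =>
        congrArg Subtype.val (mem_center_iff.1 c.2 ⟨d, hd⟩)⟩)))))
  obtain ⟨h, hh⟩ := exists_card_pow hD
  have hh1 : h ≤ 1 := by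
    by_contra hc
    have := hs.rank_add hE hEc (by omega) hD hDE hh (by omega)
    omega
  have honly : ∀ x ∈ D, x = 1 ∨ x = z := by
    intro x hx
    by_contra hno
    push Not at hno
    have := CfsgLib.SymplecticHyperplanes.four_le_card hD ((hDmem z).2 ⟨hz, hzz⟩) hx hz1 (fun hxz => by
      obtain ⟨i, hi⟩ := mem_zpowers_iff.1 hxz
      rw [← zpow_mod_orderOf, orderOf_eq_prime (by rw [pow_two]; exact hzz) hz1] at hi
      rcases Int.emod_two_eq_zero_or_one i with hi0 | hi0 <;> rw [Nat.cast_ofNat, hi0] at hi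
      · exact hno.1 (by rw [← hi, zpow_zero])
      · exact hno.2 (by rw [← hi, zpow_one]))
    have h2 : 2 ^ h ≤ 2 ^ 1 := Nat.pow_le_pow_right two_pos hh1
    omega
  refine ⟨C, z, ⟨hE, hEc, hC2, hEC, hfaith, hz.1, hz1, hzz, fun g hg => ?_,
    fun x hxC hx hxx => honly x ((hDmem x).2 ⟨⟨hxC, hx⟩, hxx⟩), hlift le_rfl hDE,
    fun c hc => (hsq c hc).2, fun c hc d hd => ?_⟩, hRC⟩
  · have hgz := (mem_normalizer_iff.1 (hDn hg) z).1 ((hDmem z).2 ⟨hz, hzz⟩)
    rcases honly _ hgz with h1 | h1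
    · exact absurd (conj_eq_one_iff.1 h1) hz1
    · exact mul_inv_eq_iff_eq_mul.1 h1
  · have hcd := hcom (commutator_mem_commutator hc hd)
    have h2 : ⁅c, d⁆ * ⁅c, d⁆ = 1 := by
      have h1 : c * ⁅c, d⁆ = ⁅c, d⁆ * c := (hZc _ hcd c hc).symm
      have h3 : c * c * d = d * (c * c) := (hZc _ (hsq c hc) d hd)
      calc ⁅c, d⁆ * ⁅c, d⁆ = ⁅c, d⁆ * c * (d * c⁻¹ * d⁻¹) := by
            rw [commutatorElement_def]; group
        _ = c * ⁅c, d⁆ * (d * c⁻¹ * d⁻¹) := by rw [h1]
        _ = c * c * d * (c * c)⁻¹ * d⁻¹ := by rw [commutatorElement_def]; group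
        _ = 1 := by rw [h3]; group
    rcases honly _ ((hDmem _).2 ⟨hcd, h2⟩) with h1 | h1
    · exact Or.inl (commutatorElement_eq_one_iff_mul_comm.1 h1)
    · refine Or.inr ?_
      rw [← h1, commutatorElement_def]
      group

end CfsgLib.KlingerMason
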