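import Cfsg.Agent.Lib.PGroup.KlingerMason.Frame

/-!
# Orthogonal pairs in the critical subgroup

For a hyperplane `B` of `E` the piece `[C ∩ C(B), E]` commutes with everything fixed by an element
outside `B`, and when nontrivial it contains non-commuting elements whose squares agree.
-/

set_option autoImplicit false
set_option linter.style.haveILetI false
set_option linter.unusedSectionVars false

open Subgroup
open scoped commutatorElement

namespace CfsgLib.KlingerMason

variable {G : Type*} [Group G]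

/-- The part of `C ∩ C(B)` moved by `E`. -/
def piece (E C B : Subgroup G) : Subgroup G :=
  ⁅C ⊓ centralizer (B : Set G), E⁆

/-- Two orthogonal pairs of anticommuting elements with a common square. -/
structure Quad (z : G) (S : Set G) (u v u' v' : G) : Prop where
  hu : u ∈ S
  hv : v ∈ S
  hu' : u' ∈ S
  hv' : v' ∈ S
  huv : u * v = z * (v * u)
  huv' : u' * v' = z * (v' * u')
  cuu : u * u' = u' * u
  cuv : u * v' = v' * u
  cvu : v * u' = u' * v
  cvv : v * v' = v' * v
  eps : ∃ ε : G, ε * ε = 1 ∧ (ε = 1 ∨ ε = z) ∧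
    u * u = ε ∧ v * v = ε ∧ u' * u' = ε ∧ v' * v' = ε

/-- An anticommuting pair with squares `ε`. -/
def IsPairIn (z ε : G) (S : Set G) (u v : G) : Prop :=
  u ∈ S ∧ v ∈ S ∧ u * v = z * (v * u) ∧ u * u = ε ∧ v * v = ε

theorem commute_of_sq_commute {p : ℕ} (hp : Odd p) {f u : G} (hf : f ^ p = 1)
    (h : f * f * u = u * (f * f)) : f * u = u * f := by
  obtain ⟨j, hj⟩ := hp
  have e : f = (f * f) ^ (j + 1) := by
    rw [← pow_two, ← pow_mul, show 2 * (j + 1) = p + 1 by omega, pow_succ, hf, one_mul]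
  rw [e]
  exact ((show Commute (f * f) u from h).pow_left (j + 1)).eq

/-- An operator of odd order cannot send `u` to `z * u`. -/
theorem commute_of_conj_mem {p : ℕ} (hp : Odd p) {f u z : G} (hf : f ^ p = 1) (hfz : f * z = z * f)
    (hz : z * z = 1) (h : f * u * f⁻¹ = u ∨ f * u * f⁻¹ = z * u) : f * u = u * f := by
  rcases h with h | h
  · exact mul_inv_eq_iff_eq_mul.1 h
  · refine commute_of_sq_commute hp hf (mul_inv_eq_iff_eq_mul.1 ?_)
    calc f * f * u * (f * f)⁻¹ = f * (f * u * f⁻¹) * f⁻¹ := by group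
      _ = (f * z) * u * f⁻¹ := by rw [h]; group
      _ = z * (f * u * f⁻¹) := by rw [hfz]; group
      _ = u := by rw [h, ← mul_assoc, hz, one_mul]

variable [Finite G] {p k : ℕ} [hp : Fact p.Prime] {E C : Subgroup G} {z : G}

theorem Frame.z_comm (hf : Frame p k E C z) {c : G} (hc : c ∈ C) : c * z = z * c :=
  hf.z_fix c (le_normalizer hc)

theorem Frame.z_comm_E (hf : Frame p k E C z) {e : G} (he : e ∈ E) : e * z = z * e :=
  hf.z_fix e (hf.normE he)

theorem Frame.z_central (hf : Frame p k E C z) : z ∈ centralizer (C : Set G) :=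
  mem_centralizer_iff.2 fun _ hc => hf.z_comm hc

theorem Frame.mul_sq (hf : Frame p k E C z) {c d : G} (hc : c ∈ C) (hd : d ∈ C) :
    (c * d = d * c → c * d * (c * d) = c * c * (d * d)) ∧
    (c * d = z * (d * c) → c * d * (c * d) = z * (c * c * (d * d))) := by
  refine ⟨fun h => ?_, fun h => ?_⟩
  · calc c * d * (c * d) = c * (d * c) * d := by group
      _ = c * c * (d * d) := by rw [← h]; group
  · have hdc : d * c = z * (c * d) := by rw [h, ← mul_assoc, hf.z_sq, one_mul]
    calc c * d * (c * d) = c * (d * c) * d := by group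
      _ = (c * z) * (c * d) * d := by rw [hdc]; group
      _ = z * (c * c * (d * d)) := by rw [hf.z_comm hc]; group

theorem Frame.sq_mul (hf : Frame p k E C z) {c d : G} (hc : c ∈ C) (hd : d ∈ C)
    (h1 : c * c = 1 ∨ c * c = z) (h2 : d * d = 1 ∨ d * d = z) :
    c * d * (c * d) = 1 ∨ c * d * (c * d) = z := by
  have hz := hf.z_sq
  rcases hf.comm c hc d hd with h | h
  · rw [(hf.mul_sq hc hd).1 h]
    rcases h1 with h1 | h1 <;> rcases h2 with h2 | h2 <;> simp [h1, h2, hz]
  · rw [(hf.mul_sq hc hd).2 h]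
    rcases h1 with h1 | h1 <;> rcases h2 with h2 | h2 <;> simp [h1, h2, hz]

theorem Frame.piece_le (hf : Frame p k E C z) {B : Subgroup G} (hB : B ≤ E) :
    piece E C B ≤ C ⊓ centralizer (B : Set G) := by
  refine commutator_le.2 fun c hc e he => ?_
  rw [commutatorElement_def, show c * e * c⁻¹ * e⁻¹ = c * (e * c⁻¹ * e⁻¹) by group]
  exact mul_mem hc ((mem_normalizer_iff.1 (inf_centralizer_le_normalizer hf.elem hB hf.normE he)
    _).1 (inv_mem hc))

theorem Frame.piece_normE (hf : Frame p k E C z) {B : Subgroup G} (hB : B ≤ E) :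
    E ≤ normalizer ((piece E C B : Subgroup G) : Set G) := by
  rw [piece, commutator_comm]
  exact Subgroup.normalizer_commutator_ge_left E _

theorem Frame.piece_sq (hf : Frame p k E C z) {B : Subgroup G} (hB : B ≤ E) {u : G}
    (hu : u ∈ piece E C B) : u * u = 1 ∨ u * u = z := by
  let S : Subgroup G :=
    { carrier := {x | x ∈ C ∧ (x * x = 1 ∨ x * x = z)}
      one_mem' := ⟨one_mem C, Or.inl (mul_one 1)⟩
      mul_mem' := fun {a b} ha hb => ⟨mul_mem ha.1 hb.1, hf.sq_mul ha.1 hb.1 ha.2 hb.2⟩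
      inv_mem' := fun {a} ha => ⟨inv_mem ha.1, by
        rcases ha.2 with h | h
        · left; rw [← mul_inv_rev, h, inv_one]
        · right; rw [← mul_inv_rev, h]; exact inv_eq_of_mul_eq_one_right hf.z_sq⟩ }
  suffices h : piece E C B ≤ S from (h hu).2
  refine commutator_le.2 fun c hc e he => ⟨(hf.piece_le hB (commutator_mem_commutator hc he)).1, ?_⟩
  set d := e * c⁻¹ * e⁻¹ with hd
  have hdC : d ∈ C := (mem_normalizer_iff.1 (hf.normE he) _).1 (inv_mem hc.1)
  have hcd : ⁅c, e⁆ = c * d := by rw [commutatorElement_def, hd]; group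
  have hdd : c * c * (d * d) = 1 := by
    have h1 : e * (c * c) = c * c * e :=
      mem_centralizer_iff.1 (hf.centre ⟨mul_mem hc.1 hc.1, hf.sq c hc.1⟩) e he
    have h2 : e * (c * c)⁻¹ = (c * c)⁻¹ * e := (show Commute e (c * c) from h1).inv_right.eq
    rw [show d * d = e * (c * c)⁻¹ * e⁻¹ by rw [hd]; group, h2]
    group
  rw [hcd]
  rcases hf.comm c hc.1 d hdC with h | h
  · exact Or.inl (by rw [(hf.mul_sq hc.1 hdC).1 h, hdd])
  · exact Or.inr (by rw [(hf.mul_sq hc.1 hdC).2 h, hdd, mul_one])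

theorem Frame.exists_not_mem (hf : Frame p k E C z) {B : Subgroup G}
    (hBc : p * Nat.card B = Nat.card E) : ∃ e ∈ E, e ∉ B := by
  by_contra hno
  push Not at hno
  have h := Nat.le_of_dvd Nat.card_pos (card_dvd_of_le (show E ≤ B from hno))
  rw [← hBc] at h
  have := hp.out.two_le
  nlinarith [Nat.card_pos (α := B)]

theorem Frame.piece_orth (hf : Frame p k E C z) {B : Subgroup G} (hB : B ≤ E)
    (hBc : p * Nat.card B = Nat.card E) {d e₀ : G} (hd : d ∈ C) (he₀ : e₀ ∈ E) (he₀B : e₀ ∉ B)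
    (hde : e₀ * d = d * e₀) {u : G} (hu : u ∈ piece E C B) : d * u = u * d := by
  suffices h : piece E C B ≤ centralizer ({d} : Set G) from
    (mem_centralizer_singleton_iff.1 (h hu)).symm
  refine commutator_le.2 fun c hc e he => mem_centralizer_singleton_iff.2 ?_
  have hsup : B ⊔ zpowers e₀ = E := hyperplanes_sup hf.elem hB (zpowers_le.2 he₀) hBc
    fun h => he₀B (h (mem_zpowers e₀))
  have hn : zpowers e₀ ≤ normalizer (B : Set G) :=
    (le_centralizer_of_le hf.elem (zpowers_le.2 he₀) hB).trans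
      (CfsgLib.Coprime.centralizer_le_normalizer_self B)
  obtain ⟨b, hb, f, hf', rfl⟩ := CfsgLib.Coprime.mem_sup_exists hn (hsup.ge he)
  have hfE : f ∈ E := zpowers_le.2 he₀ hf'
  have hfd : f * d = d * f := by
    obtain ⟨i, rfl⟩ := mem_zpowers_iff.1 hf'
    exact ((show Commute e₀ d from hde).zpow_left i).eq
  have hfz := hf.z_comm_E hfE
  set c' := f * c * f⁻¹ with hc'
  have hc'B : c' ∈ C ⊓ centralizer (B : Set G) :=
    (mem_normalizer_iff.1 (inf_centralizer_le_normalizer hf.elem hB hf.normE hfE) _).1 hc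
  have hbc : b * c = c * b := mem_centralizer_iff.1 hc.2 b hb
  have hbc' : b * c' = c' * b := mem_centralizer_iff.1 hc'B.2 b hb
  have hcb : ⁅c, b * f⁆ = c * c'⁻¹ := by
    calc ⁅c, b * f⁆ = (c * b) * (f * c⁻¹ * f⁻¹) * b⁻¹ := by rw [commutatorElement_def]; group
      _ = b * c * c'⁻¹ * b⁻¹ := by rw [hbc, hc']; group
      _ = c * c'⁻¹ := by
        rw [show b * c * c'⁻¹ * b⁻¹ = (b * c) * (b * c')⁻¹ by group, hbc, hbc']; group
  rw [hcb]
  have hconj : ∀ {x y : G}, x * y = y * x → y * x * y⁻¹ = x := fun h => by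
    rw [← h, mul_inv_cancel_right]
  rcases hf.comm d hd c hc.1 with h | h
  · have h' : d * c' = c' * d := by
      calc d * c' = f * (d * c) * f⁻¹ := by
            rw [hc', show f * (d * c) * f⁻¹ = (f * d * f⁻¹) * (f * c * f⁻¹) by group,
              hconj hfd.symm]
        _ = c' * d := by
            rw [h, show f * (c * d) * f⁻¹ = (f * c * f⁻¹) * (f * d * f⁻¹) by group, hconj hfd.symm]
    exact (((show Commute d c from h).mul_right (show Commute d c' from h').inv_right).symm).eq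
  · have h' : d * c' = z * (c' * d) := by
      calc d * c' = f * (d * c) * f⁻¹ := by
            rw [hc', show f * (d * c) * f⁻¹ = (f * d * f⁻¹) * (f * c * f⁻¹) by group,
              hconj hfd.symm]
        _ = z * (c' * d) := by
            rw [h, show f * (z * (c * d)) * f⁻¹ =
              (f * z * f⁻¹) * ((f * c * f⁻¹) * (f * d * f⁻¹)) by group, hconj hfd.symm,
              hconj hfz.symm]
    have h'' : d * c'⁻¹ = c'⁻¹ * (z * d) := by
      have hcz := hf.z_comm hc'B.1
      calc d * c'⁻¹ = z * (z * (d * c'⁻¹)) := by rw [← mul_assoc, hf.z_sq, one_mul]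
        _ = z * (c'⁻¹ * (z * (c' * d)) * c'⁻¹) := by
            rw [show c'⁻¹ * (z * (c' * d)) = (c'⁻¹ * z * c') * d by group,
              show c'⁻¹ * z * c' = z from by rw [mul_assoc, ← hcz, inv_mul_cancel_left]]
            group
        _ = z * (c'⁻¹ * d) := by rw [← h']; group
        _ = c'⁻¹ * (z * d) := by
            rw [← mul_assoc, ← (show Commute c' z from hcz).inv_left.eq, mul_assoc]
    calc c * c'⁻¹ * d = c * (c'⁻¹ * (z * (z * d))) := by
          rw [← mul_assoc z, hf.z_sq, one_mul, mul_assoc]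
      _ = (c * z) * (c'⁻¹ * (z * d)) := by
          rw [show c'⁻¹ * (z * (z * d)) = (c'⁻¹ * z) * (z * d) by group,
            (show Commute c' z from hf.z_comm hc'B.1).inv_left.eq]
          group
      _ = (z * c) * (d * c'⁻¹) := by rw [hf.z_comm hc.1, h'']
      _ = d * (c * c'⁻¹) := by
          rw [← mul_assoc d, h]; group

theorem Frame.piece_split (hf : Frame p k E C z) (hp2 : p ≠ 2) {B : Subgroup G} (hB : B ≤ E) :
    piece E C B ⊔ (C ⊓ centralizer (B : Set G)) ⊓ centralizer (E : Set G) =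
      C ⊓ centralizer (B : Set G) := by
  haveI : Fact (Nat.Prime 2) := ⟨Nat.prime_two⟩
  exact CfsgLib.Coprime.commutator_sup_centralizer (inf_centralizer_le_normalizer hf.elem hB hf.normE)
    (coprime_card hp2 (isPGroup_of_elementary hf.elem) (hf.two.to_le inf_le_left))
    (Or.inl (CfsgLib.Coprime.isSolvable_of_isMulCommutative hf.elem.1))

theorem Frame.piece_eq_bot (hf : Frame p k E C z) (hp2 : p ≠ 2) {B : Subgroup G} (hB : B ≤ E)
    (h : piece E C B ≤ centralizer (E : Set G)) : piece E C B = ⊥ := by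
  haveI : Fact (Nat.Prime 2) := ⟨Nat.prime_two⟩
  have h1 := CfsgLib.Coprime.commutator_commutator_eq
    (inf_centralizer_le_normalizer hf.elem hB hf.normE)
    (coprime_card hp2 (isPGroup_of_elementary hf.elem) (hf.two.to_le inf_le_left))
    (Or.inl (CfsgLib.Coprime.isSolvable_of_isMulCommutative hf.elem.1))
  rw [piece] at h ⊢
  rw [← h1]
  exact commutator_eq_bot_iff_le_centralizer.2 h

/-- An element of a piece centralizing the piece is central. -/
theorem Frame.piece_central (hf : Frame p k E C z) (hp2 : p ≠ 2) (hk : 2 ≤ k) {B : Subgroup G}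
    (hB : B ≤ E) (hBc : p * Nat.card B = Nat.card E) {u : G} (hu : u ∈ piece E C B)
    (hcomm : ∀ w ∈ piece E C B, u * w = w * u) : u ∈ centralizer (C : Set G) := by
  haveI : Fact (Nat.Prime 2) := ⟨Nat.prime_two⟩
  suffices h : C ≤ centralizer ({u} : Set G) from
    mem_centralizer_iff.2 fun c hc => mem_centralizer_singleton_iff.1 (h hc)
  refine CfsgLib.Coprime.le_of_hyperplanes hf.elem
    (hf.cardE ▸ Nat.pow_le_pow_right hp.out.pos hk) (not_dvd_card hp2 hf.two) hf.normE
    fun B' hB' hidx d hd => mem_centralizer_singleton_iff.2 ?_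
  by_cases hle : B' ≤ B
  · have hB'c : p * Nat.card B' = Nat.card E := by
      rw [← CfsgLib.Coprime.card_mul_relIndex hB', hidx, mul_comm]
    have hd' := hd
    rw [eq_of_le_of_card_ge hle (Nat.le_of_mul_le_mul_left (hB'c.symm ▸ hBc.le) hp.out.pos),
      ← hf.piece_split hp2 hB] at hd'
    have hn : (C ⊓ centralizer (B : Set G)) ⊓ centralizer (E : Set G) ≤
        normalizer ((piece E C B : Subgroup G) : Set G) :=
      inf_le_left.trans (Subgroup.normalizer_commutator_ge_left _ E)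
    obtain ⟨w, hw, x, hx, rfl⟩ := CfsgLib.Coprime.mem_sup_exists hn hd'
    obtain ⟨e₀, he₀, he₀B⟩ := hf.exists_not_mem hBc
    exact ((show Commute w u from (hcomm w hw).symm).mul_left (show Commute x u from
      hf.piece_orth hB hBc hx.1.1 he₀ he₀B (mem_centralizer_iff.1 hx.2 e₀ he₀) hu)).eq
  · obtain ⟨e₀, he₀, he₀B⟩ := SetLike.not_le_iff_exists.1 hle
    exact hf.piece_orth hB hBc hd.1 (hB' he₀) he₀B (mem_centralizer_iff.1 hd.2 e₀ he₀) hu

theorem Frame.piece_nonabelian (hf : Frame p k E C z) (hp2 : p ≠ 2) (hk : 2 ≤ k) {B : Subgroup G}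
    (hB : B ≤ E) (hBc : p * Nat.card B = Nat.card E) (hne : piece E C B ≠ ⊥) :
    ∃ u ∈ piece E C B, ∃ v ∈ piece E C B, u * v = z * (v * u) := by
  by_contra hno
  push Not at hno
  refine hne (hf.piece_eq_bot hp2 hB fun u hu => hf.centre ⟨(hf.piece_le hB hu).1,
    hf.piece_central hp2 hk hB hBc hu fun w hw => ?_⟩)
  exact (hf.comm u (hf.piece_le hB hu).1 w (hf.piece_le hB hw).1).resolve_right (hno u hu w hw)

theorem Frame.exists_piece (hf : Frame p k E C z) (hp2 : p ≠ 2) (hk : 2 ≤ k) {x : G} (hx : x ∈ E)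
    (hx1 : x ≠ 1) : ∃ B, B ≤ E ∧ p * Nat.card B = Nat.card E ∧ piece E C B ≠ ⊥ ∧ x ∉ B := by
  haveI : Fact (Nat.Prime 2) := ⟨Nat.prime_two⟩
  by_contra hno
  push Not at hno
  refine hx1 (hf.faithful x hx (mem_centralizer_iff.2 fun c hc => ?_))
  suffices h : C ≤ centralizer ({x} : Set G) from mem_centralizer_singleton_iff.1 (h hc)
  refine CfsgLib.Coprime.le_of_hyperplanes hf.elem
    (hf.cardE ▸ Nat.pow_le_pow_right hp.out.pos hk) (not_dvd_card hp2 hf.two) hf.normE
    fun B hB hidx d hd => mem_centralizer_singleton_iff.2 ?_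
  by_cases hxB : x ∈ B
  · exact (mem_centralizer_iff.1 hd.2 x hxB).symm
  · have hBc : p * Nat.card B = Nat.card E := by
      rw [← CfsgLib.Coprime.card_mul_relIndex hB, hidx, mul_comm]
    have hbot : piece E C B = ⊥ := by
      by_contra hne
      exact hxB (hno B hB hBc hne)
    have h := hf.piece_split hp2 hB
    rw [hbot, bot_sup_eq] at h
    rw [← h] at hd
    exact (mem_centralizer_iff.1 hd.2 x hx).symm

/-- An anticommuting pair can be normalised to have equal squares. -/
theorem Frame.normalise (hf : Frame p k E C z) {P : Subgroup G} (hP : P ≤ C) {u v : G}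
    (hu : u ∈ P) (hv : v ∈ P) (huv : u * v = z * (v * u)) (hu2 : u * u = 1 ∨ u * u = z)
    (hv2 : v * v = 1 ∨ v * v = z) :
    (∃ a b, IsPairIn z z P a b) ∨ ∃ a b, IsPairIn z 1 P a b := by
  have huC := hP hu
  have hw : u * v * (u * v) = z * (u * u * (v * v)) := (hf.mul_sq huC (hP hv)).2 huv
  rcases hu2 with h1 | h1 <;> rcases hv2 with h2 | h2
  · exact Or.inr ⟨u, v, hu, hv, huv, h1, h2⟩
  · refine Or.inr ⟨u, u * v, hu, mul_mem hu hv, ?_, h1, by rw [hw, h1, h2, one_mul, hf.z_sq]⟩
    calc u * (u * v) = u * (z * (v * u)) := by rw [← huv]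
      _ = (u * z) * v * u := by group
      _ = z * (u * v * u) := by rw [hf.z_comm huC]; group
  · refine Or.inr ⟨u * v, v, mul_mem hu hv, hv, ?_, by rw [hw, h1, h2, mul_one, hf.z_sq], h2⟩
    calc u * v * v = z * (v * u) * v := by rw [← huv]
      _ = z * (v * (u * v)) := by group
  · exact Or.inl ⟨u, v, hu, hv, huv, h1, h2⟩

/-- Multiplying by one of `1`, `u`, `v`, `u * v` makes an element commute with `u` and `v`. -/
theorem Frame.adjust (hf : Frame p k E C z) {u v t : G} (hu : u ∈ C) (hv : v ∈ C) (ht : t ∈ C)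
    (huv : u * v = z * (v * u)) :
    ∃ x, (x = 1 ∨ x = u ∨ x = v ∨ x = u * v) ∧ t * x * u = u * (t * x) ∧
      t * x * v = v * (t * x) := by
  have hz := hf.z_sq
  have hvu : v * u = z * (u * v) := by rw [huv, ← mul_assoc, hz, one_mul]
  have key : ∀ {t a b : G}, t ∈ C → a ∈ C → t * a = z * (a * t) → b * a = z * (a * b) →
      t * b * a = a * (t * b) := by
    intro t a b htC haC h1 h2
    calc t * b * a = t * (z * (a * b)) := by rw [mul_assoc, h2]
      _ = (t * z) * a * b := by group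
      _ = z * (t * a) * b := by rw [hf.z_comm htC]; group
      _ = (z * z) * (a * t * b) := by rw [h1]; group
      _ = a * (t * b) := by rw [hz, one_mul, mul_assoc]
  obtain ⟨x₁, hx₁, hc₁⟩ : ∃ x, (x = 1 ∨ x = u) ∧ t * x * v = v * (t * x) := by
    rcases hf.comm t ht v hv with h | h
    · exact ⟨1, Or.inl rfl, by rw [mul_one]; exact h⟩
    · exact ⟨u, Or.inr rfl, key ht hv h huv⟩
  have ht₁ : t * x₁ ∈ C := by
    rcases hx₁ with rfl | rfl
    · rw [mul_one]; exact ht
    · exact mul_mem ht hu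
  rcases hf.comm _ ht₁ u hu with h | h
  · exact ⟨x₁, hx₁.elim Or.inl fun e => Or.inr (Or.inl e), h, hc₁⟩
  · refine ⟨x₁ * v, ?_, by rw [← mul_assoc t]; exact key ht₁ hu h hvu, ?_⟩
    · rcases hx₁ with rfl | rfl
      · exact Or.inr (Or.inr (Or.inl (one_mul v)))
      · exact Or.inr (Or.inr (Or.inr rfl))
    · rw [← mul_assoc t, ← mul_assoc v, ← hc₁]

/-- A nontrivial piece has a `z`-pair or two orthogonal pairs of involutions. -/
theorem Frame.piece_pairs (hf : Frame p k E C z) (hp2 : p ≠ 2) (hk : 2 ≤ k) {B : Subgroup G}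
    (hB : B ≤ E) (hBc : p * Nat.card B = Nat.card E) (hne : piece E C B ≠ ⊥) :
    (∃ u v, IsPairIn z z (piece E C B) u v) ∨
      ∃ u v u' v', Quad z (piece E C B) u v u' v' := by
  have hodd : Odd p := hp.out.odd_of_ne_two hp2
  set P := piece E C B with hPdef
  have hPC : P ≤ C := (hf.piece_le hB).trans inf_le_left
  have hsq : ∀ x ∈ P, x * x = 1 ∨ x * x = z := fun x hx => hf.piece_sq hB hx
  have hzz := hf.z_sq
  obtain ⟨u₀, hu₀, v₀, hv₀, h₀⟩ := hf.piece_nonabelian hp2 hk hB hBc hne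
  rcases hf.normalise hPC hu₀ hv₀ h₀ (hsq _ hu₀) (hsq _ hv₀) with hz | ⟨u, v, hu, hv, huv, hu2, hv2⟩
  · exact Or.inl hz
  have huC := hPC hu
  have hvC := hPC hv
  have hne' : u * v ≠ v * u := fun h => hf.z_ne (by
    rw [h] at huv
    exact mul_eq_right.1 huv.symm)
  by_cases hcase : ∃ i ∈ P, i ∈ centralizer (C : Set G) ∧ i ≠ 1 ∧ i ≠ z
  · obtain ⟨i, hi, hiC, hi1, hiz⟩ := hcase
    have hii : i * i = z := (hsq i hi).resolve_left fun h => by
      rcases hf.invol i (hPC hi) hiC h with h' | h' <;> contradiction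
    have hci : ∀ c ∈ C, c * i = i * c := fun c hc => mem_centralizer_iff.1 hiC c hc
    refine Or.inl ⟨u * i, v * i, mul_mem hu hi, mul_mem hv hi, ?_,
      by rw [(hf.mul_sq huC (hPC hi)).1 (hci u huC), hu2, hii, one_mul],
      by rw [(hf.mul_sq hvC (hPC hi)).1 (hci v hvC), hv2, hii, one_mul]⟩
    calc u * i * (v * i) = u * (i * v) * i := by group
      _ = (u * v) * (i * i) := by rw [← hci v hvC]; group
      _ = z * (v * (u * i) * i) := by rw [huv]; group
      _ = z * (v * i * (u * i)) := by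
          rw [show v * i * (u * i) = v * (i * u) * i by group, ← hci u huC]
  push Not at hcase
  obtain ⟨w, hw, hwu, hwv, hw1, hwz⟩ :
      ∃ w ∈ P, w * u = u * w ∧ w * v = v * w ∧ w ≠ 1 ∧ w ≠ z := by
    by_contra hno
    push Not at hno
    have hsmall : ∀ t ∈ P, ∃ x, (x = 1 ∨ x = u ∨ x = v ∨ x = u * v) ∧ (t * x = 1 ∨ t * x = z) := by
      intro t ht
      obtain ⟨x, hx, h1, h2⟩ := hf.adjust huC hvC (hPC ht) huv
      refine ⟨x, hx, ?_⟩
      have hxP : x ∈ P := by
        rcases hx with rfl | rfl | rfl | rfl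
        exacts [one_mem P, hu, hv, mul_mem hu hv]
      by_cases h : t * x = 1
      · exact Or.inl h
      · exact Or.inr (hno _ (mul_mem ht hxP) h1 h2 h)
    have huinv : u⁻¹ = u := inv_eq_of_mul_eq_one_right hu2
    have hvinv : v⁻¹ = v := inv_eq_of_mul_eq_one_right hv2
    have huv2 : u * v * (u * v) = z := by
      rw [(hf.mul_sq huC hvC).2 huv, hu2, hv2, mul_one, mul_one]
    have hform : ∀ s ∈ P, s * s = 1 → s ≠ 1 → s ≠ z →
        s = u ∨ s = z * u ∨ s = v ∨ s = z * v := by
      intro s hs hs2 hs1 hsz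
      obtain ⟨x, hx, hsx⟩ := hsmall s hs
      have hcase' : s = x⁻¹ ∨ s = z * x⁻¹ :=
        hsx.imp eq_inv_of_mul_eq_one_left eq_mul_inv_of_mul_eq
      rcases hx with rfl | rfl | rfl | rfl
      · rw [inv_one, mul_one] at hcase'
        tauto
      · rw [huinv] at hcase'
        tauto
      · rw [hvinv] at hcase'
        tauto
      · exfalso
        have h3 : (u * v)⁻¹ * (u * v)⁻¹ = z := by
          rw [← mul_inv_rev, huv2]; exact inv_eq_of_mul_eq_one_right hzz
        refine hf.z_ne (h3.symm.trans ?_)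
        rcases hcase' with h | h <;> rw [h] at hs2
        · exact hs2
        · have hq : Commute z (u * v)⁻¹ := (hf.z_comm (inv_mem (mul_mem huC hvC))).symm
          calc (u * v)⁻¹ * (u * v)⁻¹ = z * z * ((u * v)⁻¹ * (u * v)⁻¹) := by rw [hzz, one_mul]
            _ = z * ((z * (u * v)⁻¹) * (u * v)⁻¹) := by group
            _ = z * (((u * v)⁻¹ * z) * (u * v)⁻¹) := by rw [← hq.eq]
            _ = z * (u * v)⁻¹ * (z * (u * v)⁻¹) := by group
            _ = 1 := hs2
    have hu1 : u ≠ 1 := fun h => hne' (by rw [h, one_mul, mul_one])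
    have hv1 : v ≠ 1 := fun h => hne' (by rw [h, one_mul, mul_one])
    have huz : u ≠ z := fun h => hne' (by rw [h]; exact (hf.z_comm hvC).symm)
    have hvz : v ≠ z := fun h => hne' (by rw [h]; exact hf.z_comm huC)
    have himg : ∀ e ∈ E, ∀ a, (a = u ∨ a = v) →
        e * a * e⁻¹ = u ∨ e * a * e⁻¹ = z * u ∨ e * a * e⁻¹ = v ∨ e * a * e⁻¹ = z * v := by
      intro e he a ha
      obtain ⟨haP, ha2, ha1, haz⟩ : a ∈ P ∧ a * a = 1 ∧ a ≠ 1 ∧ a ≠ z := by
        rcases ha with rfl | rfl
        exacts [⟨hu, hu2, hu1, huz⟩, ⟨hv, hv2, hv1, hvz⟩]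
      refine hform _ ((mem_normalizer_iff.1 (hf.piece_normE hB he) a).1 haP) ?_
        (fun h => ha1 (conj_eq_one_iff.1 h)) (fun h => haz ?_)
      · rw [show e * a * e⁻¹ * (e * a * e⁻¹) = e * (a * a) * e⁻¹ by group, ha2]; group
      · rw [show a = e⁻¹ * (e * a * e⁻¹) * e by group, h, mul_assoc, ← hf.z_comm_E he]
        group
    have hEu : ∀ e ∈ E, e * u = u * e ∧ e * v = v * e := by
      intro e he
      have hez := hf.z_comm_E he
      have hswap : ∀ {a b : G}, a * b ≠ b * a → b ∈ C →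
          (∀ s, (s = a ∨ s = b) → e * s * e⁻¹ = a ∨ e * s * e⁻¹ = z * a ∨
            e * s * e⁻¹ = b ∨ e * s * e⁻¹ = z * b) → e * a = a * e := by
        intro a b hab hbC him
        by_cases hfix : e * a * e⁻¹ = a ∨ e * a * e⁻¹ = z * a
        · exact commute_of_conj_mem hodd (hf.elem.2 e he) hez hzz hfix
        have hA : e * a * e⁻¹ = b ∨ e * a * e⁻¹ = z * b := by
          have := him a (Or.inl rfl)
          tauto
        have hB' : e * b * e⁻¹ = a ∨ e * b * e⁻¹ = z * a := by
          by_contra hno'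
          have hB'' : e * b * e⁻¹ = b ∨ e * b * e⁻¹ = z * b := by
            have := him b (Or.inr rfl)
            tauto
          have hzb : Commute z b := (hf.z_comm hbC).symm
          have hcomm : Commute (e * a * e⁻¹) (e * b * e⁻¹) := by
            rcases hA with h | h <;> rcases hB'' with h' | h' <;> rw [h, h']
            exacts [hzb.symm.mul_right (Commute.refl b), hzb.mul_left (Commute.refl b)]
          refine hab ?_
          calc a * b = e⁻¹ * ((e * a * e⁻¹) * (e * b * e⁻¹)) * e := by group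
            _ = b * a := by rw [hcomm.eq]; group
        have hzc : ∀ s, e * (z * s) * e⁻¹ = z * (e * s * e⁻¹) := fun s => by
          rw [show e * (z * s) * e⁻¹ = (e * z) * s * e⁻¹ by group, hez]; group
        have hsq' : e * e * a * (e * e)⁻¹ = a ∨ e * e * a * (e * e)⁻¹ = z * a := by
          rw [show e * e * a * (e * e)⁻¹ = e * (e * a * e⁻¹) * e⁻¹ by group]
          rcases hA with h | h <;> rw [h]
          · exact hB'
          · rw [hzc]
            rcases hB' with h' | h' <;> rw [h']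
            · exact Or.inr rfl
            · exact Or.inl (by rw [← mul_assoc, hzz, one_mul])
        refine commute_of_sq_commute hodd (hf.elem.2 e he) (commute_of_conj_mem hodd ?_ ?_ hzz hsq')
        · rw [← pow_two, ← pow_mul, mul_comm, pow_mul, hf.elem.2 e he, one_pow]
        · rw [mul_assoc, hez, ← mul_assoc, hez, mul_assoc]
      refine ⟨hswap hne' hvC (fun s hs => himg e he s hs),
        hswap (Ne.symm hne') huC fun s hs => ?_⟩
      rcases himg e he s hs.symm with h | h | h | h <;> tauto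
    apply hne
    refine hf.piece_eq_bot hp2 hB fun t ht => mem_centralizer_iff.2 fun e he => ?_
    obtain ⟨x, hx, htx⟩ := hsmall t ht
    have hex : Commute e x := by
      rcases hx with rfl | rfl | rfl | rfl
      exacts [Commute.one_right e, (hEu e he).1, (hEu e he).2,
        Commute.mul_right (hEu e he).1 (hEu e he).2]
    rcases htx with h | h
    · rw [eq_inv_of_mul_eq_one_left h]; exact hex.inv_right.eq
    · rw [eq_mul_inv_of_mul_eq h]
      exact ((show Commute e z from hf.z_comm_E he).mul_right hex.inv_right).eq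
  have hwC := hPC hw
  obtain ⟨t, ht, hwt⟩ : ∃ t ∈ P, w * t = z * (t * w) := by
    by_contra hno
    push Not at hno
    exact hwz (hcase w hw (hf.piece_central hp2 hk hB hBc hw fun t ht =>
      (hf.comm w hwC t (hPC ht)).resolve_right (hno t ht)) hw1)
  obtain ⟨x, hx, htu, htv⟩ := hf.adjust huC hvC (hPC ht) huv
  have hwx : Commute w x := by
    rcases hx with rfl | rfl | rfl | rfl
    exacts [Commute.one_right w, hwu, hwv, Commute.mul_right hwu hwv]
  have hxP : x ∈ P := by
    rcases hx with rfl | rfl | rfl | rfl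
    exacts [one_mem P, hu, hv, mul_mem hu hv]
  set Q := P ⊓ centralizer ({u} : Set G) ⊓ centralizer ({v} : Set G) with hQdef
  have hwt' : w * (t * x) = z * (t * x * w) := by
    rw [← mul_assoc, hwt, mul_assoc, mul_assoc, hwx.eq, ← mul_assoc t]
  rcases hf.normalise (P := Q) ((inf_le_left.trans inf_le_left).trans hPC) (u := w) (v := t * x)
    ⟨⟨hw, mem_centralizer_singleton_iff.2 hwu⟩, mem_centralizer_singleton_iff.2 hwv⟩
    ⟨⟨mul_mem ht hxP, mem_centralizer_singleton_iff.2 htu⟩, mem_centralizer_singleton_iff.2 htv⟩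
    hwt' (hsq _ hw) (hsq _ (mul_mem ht hxP)) with ⟨a, b, ha, hb, h⟩ | ⟨a, b, ha, hb, hab, ha2, hb2⟩
  · exact Or.inl ⟨a, b, ha.1.1, hb.1.1, h⟩
  · exact Or.inr ⟨u, v, a, b, hu, hv, ha.1.1, hb.1.1, huv, hab,
      (mem_centralizer_singleton_iff.1 ha.1.2).symm, (mem_centralizer_singleton_iff.1 hb.1.2).symm,
      (mem_centralizer_singleton_iff.1 ha.2).symm, (mem_centralizer_singleton_iff.1 hb.2).symm,
      1, mul_one 1, Or.inl rfl, hu2, hv2, ha2, hb2⟩

/-- Two hyperplanes with nontrivial pieces, and a quad in their pieces. -/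
theorem Frame.exists_quad (hf : Frame p k E C z) (hp2 : p ≠ 2) (hk : 2 ≤ k) :
    ∃ B₁ B₂ : Subgroup G, B₁ ≤ E ∧ B₂ ≤ E ∧ p * Nat.card B₁ = Nat.card E ∧
      p * Nat.card B₂ = Nat.card E ∧ ¬ B₁ ≤ B₂ ∧
      ∃ u v u' v', Quad z ((piece E C B₁ : Set G) ∪ piece E C B₂) u v u' v' := by
  have hE1 : ∀ {B : Subgroup G}, p * Nat.card B = Nat.card E → ∃ x ∈ B, x ≠ 1 := by
    intro B hBc
    by_contra hno
    push Not at hno
    rw [(eq_bot_iff_forall B).2 hno, card_bot, hf.cardE, mul_one] at hBc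
    have : 1 = k := Nat.pow_right_injective hp.out.two_le ((pow_one p).trans hBc)
    omega
  obtain ⟨x, hx, hx1⟩ : ∃ x ∈ E, x ≠ 1 := by
    by_contra hno
    push Not at hno
    have h := hf.cardE
    rw [(eq_bot_iff_forall E).2 hno, card_bot] at h
    exact (Nat.one_lt_pow (by omega) hp.out.one_lt).ne h
  obtain ⟨B₁, hB₁, hB₁c, hne₁, -⟩ := hf.exists_piece hp2 hk hx hx1
  obtain ⟨y, hy, hy1⟩ := hE1 hB₁c
  obtain ⟨B₂, hB₂, hB₂c, hne₂, hyB₂⟩ := hf.exists_piece hp2 hk (hB₁ hy) hy1
  refine ⟨B₁, B₂, hB₁, hB₂, hB₁c, hB₂c, fun h => hyB₂ (h hy), ?_⟩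
  rcases hf.piece_pairs hp2 hk hB₁ hB₁c hne₁ with ⟨u, v, hu, hv, huv, hu2, hv2⟩ | ⟨u, v, u', v', q⟩
  · rcases hf.piece_pairs hp2 hk hB₂ hB₂c hne₂ with ⟨u', v', hu', hv', huv', hu2', hv2'⟩ | ⟨a, b, a', b', q⟩
    · have horth : ∀ {d w : G}, d ∈ piece E C B₁ → w ∈ piece E C B₂ → d * w = w * d :=
        fun hd hw => hf.piece_orth hB₂ hB₂c (hf.piece_le hB₁ hd).1 (hB₁ hy) hyB₂
          (mem_centralizer_iff.1 (hf.piece_le hB₁ hd).2 y hy) hw
      exact ⟨u, v, u', v', Or.inl hu, Or.inl hv, Or.inr hu', Or.inr hv', huv, huv', horth hu hu',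
        horth hu hv', horth hv hu', horth hv hv', z, hf.z_sq, Or.inr rfl, hu2, hv2, hu2', hv2'⟩
    · exact ⟨a, b, a', b', Or.inr q.hu, Or.inr q.hv, Or.inr q.hu', Or.inr q.hv', q.huv, q.huv',
        q.cuu, q.cuv, q.cvu, q.cvv, q.eps⟩
  · exact ⟨u, v, u', v', Or.inl q.hu, Or.inl q.hv, Or.inl q.hu', Or.inl q.hv', q.huv, q.huv',
      q.cuu, q.cuv, q.cvu, q.cvv, q.eps⟩

end CfsgLib.KlingerMason
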