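import Cfsg.Prelude.Def_LocalEven
import Cfsg.Prelude.Def_Local
import Cfsg.Prelude.Def_CaseTheorems
import Cfsg.Agent.Lib.Coprime.Hyperplanes
import Cfsg.Agent.Lib.CFun.SymplecticHyperplanes
import Cfsg.Agent.Lib.LocalStructure.WeaklyClosed

/-!
# Groups of local characteristic `p` and characteristic 2 type: the rank lemma

`k` is the largest exponent of an elementary abelian `p`-subgroup of a 2-local subgroup.  A
two-group centralizing a nontrivial `p`-subgroup `A` acts faithfully on the part of `O_p(N(A))`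
centralizing `A`; hence an elementary 2-group of rank `h` centralizing an elementary `p`-group of
rank `a` satisfies `h + a ≤ k + 1`.
-/

set_option autoImplicit false
set_option linter.style.haveILetI false
set_option linter.unusedSectionVars false

open Subgroup
open CfsgLib.SymplecticHyperplanes (mul_card_le_of_lt elementary_sup_zpowers)

namespace CfsgLib.KlingerMason

/-- The standing hypotheses: `k` bounds the elementary abelian `p`-subgroups of the 2-locals. -/
structure Setup (G : Type*) [Group G] (p k : ℕ) : Prop where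
  odd : p ≠ 2
  three : 3 ≤ k
  locp : Cfsg.IsOfLocalCharacteristic p G
  loc2 : Cfsg.IsCharacteristicTwoType G
  rank : ∀ R A : Subgroup G, IsPGroup 2 R → R ≠ ⊥ → Cfsg.IsElementaryAbelian p A →
    A ≤ normalizer (R : Set G) → Nat.card A ≤ p ^ k

variable {G : Type*} [Group G]

/-- The part of `O_p(N(A))` centralizing `A`. -/
def coreCent (p : ℕ) (A : Subgroup G) : Subgroup G :=
  Cfsg.pCoreOf p (normalizer (A : Set G)) ⊓ centralizer (A : Set G)

theorem isPGroup_of_elementary {q : ℕ} {A : Subgroup G} (hA : Cfsg.IsElementaryAbelian q A) :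
    IsPGroup q A :=
  fun x => ⟨1, Subtype.ext (by simpa using hA.2 _ x.2)⟩

theorem elementary_comm {q : ℕ} {A : Subgroup G} (hA : Cfsg.IsElementaryAbelian q A) {a b : G}
    (ha : a ∈ A) (hb : b ∈ A) : a * b = b * a :=
  congrArg Subtype.val (isMulCommutative_iff.1 hA.1 ⟨a, ha⟩ ⟨b, hb⟩)

theorem le_centralizer_of_le {q : ℕ} {A B D : Subgroup G} (hA : Cfsg.IsElementaryAbelian q A)
    (hB : B ≤ A) (hD : D ≤ A) : B ≤ centralizer (D : Set G) :=
  fun b hb => mem_centralizer_iff.2 fun d hd => elementary_comm hA (hD hd) (hB hb)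

theorem elementary_mono {q : ℕ} {A B : Subgroup G} (hA : Cfsg.IsElementaryAbelian q A)
    (h : B ≤ A) : Cfsg.IsElementaryAbelian q B :=
  ⟨isMulCommutative_iff.2 fun a b => Subtype.ext (elementary_comm hA (h a.2) (h b.2)),
    fun a ha => hA.2 a (h ha)⟩

theorem inf_centralizer_le_normalizer {q : ℕ} {B E X : Subgroup G}
    (hB : Cfsg.IsElementaryAbelian q B) (hE : E ≤ B) (hN : B ≤ normalizer (X : Set G)) :
    B ≤ normalizer ((X ⊓ centralizer (E : Set G) : Subgroup G) : Set G) :=
  CfsgLib.Coprime.inf_le_normalizer hN ((le_centralizer_of_le hB le_rfl hE).trans le_normalizer)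

theorem exists_card_pow [Finite G] {q : ℕ} [Fact q.Prime] {A : Subgroup G}
    (hA : Cfsg.IsElementaryAbelian q A) : ∃ a, Nat.card A = q ^ a :=
  IsPGroup.iff_card.1 (isPGroup_of_elementary hA)

theorem not_dvd_card [Finite G] {q r : ℕ} [hq : Fact q.Prime] [hr : Fact r.Prime] (h : q ≠ r)
    {X : Subgroup G} (hX : IsPGroup r X) : ¬ q ∣ Nat.card X := by
  obtain ⟨n, hn⟩ := IsPGroup.iff_card.1 hX
  rw [hn]
  exact fun hd => h ((Nat.prime_dvd_prime_iff_eq hq.out hr.out).1 (hq.out.dvd_of_dvd_pow hd))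

theorem coprime_card [Finite G] {q r : ℕ} [hq : Fact q.Prime] [hr : Fact r.Prime] (h : q ≠ r)
    {A X : Subgroup G} (hA : IsPGroup q A) (hX : IsPGroup r X) :
    (Nat.card A).Coprime (Nat.card X) := by
  obtain ⟨m, hm⟩ := IsPGroup.iff_card.1 hA
  obtain ⟨n, hn⟩ := IsPGroup.iff_card.1 hX
  rw [hm, hn]
  exact (((Nat.coprime_primes hq.out hr.out).2 h).pow_left m).pow_right n

theorem exists_hyperplane_not_le [Finite G] {q : ℕ} [Fact q.Prime] {B X W : Subgroup G}
    (hB : Cfsg.IsElementaryAbelian q B) (hB2 : q ^ 2 ≤ Nat.card B) (hX : ¬ q ∣ Nat.card X)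
    (hN : B ≤ normalizer (X : Set G)) (h : ¬ X ≤ W) :
    ∃ E : Subgroup G, E ≤ B ∧ q * Nat.card E = Nat.card B ∧
      ¬ X ⊓ centralizer (E : Set G) ≤ W := by
  by_contra hno
  push Not at hno
  exact h (CfsgLib.Coprime.le_of_hyperplanes hB hB2 hX hN fun E hE hidx => hno E hE (by
    rw [← CfsgLib.Coprime.card_mul_relIndex hE, hidx, mul_comm]))

theorem hyperplanes_sup [Finite G] {q : ℕ} [Fact q.Prime] {E A A' : Subgroup G}
    (hE : Cfsg.IsElementaryAbelian q E) (hA : A ≤ E) (hA' : A' ≤ E)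
    (hcA : q * Nat.card A = Nat.card E) (h : ¬ A' ≤ A) : A ⊔ A' = E := by
  refine eq_of_le_of_card_ge (sup_le hA hA') ?_
  rw [← hcA]
  exact mul_card_le_of_lt ((isPGroup_of_elementary hE).to_le (sup_le hA hA'))
    (lt_of_le_of_ne le_sup_left fun e => h (le_sup_right.trans e.ge))

theorem hyperplanes_inf [Finite G] {q : ℕ} [hq : Fact q.Prime] {E A A' : Subgroup G}
    (hA : A ≤ E) (hA' : A' ≤ E) (hcA : q * Nat.card A = Nat.card E)
    (hcA' : q * Nat.card A' = Nat.card E) : Nat.card E ≤ q ^ 2 * Nat.card ↥(A ⊓ A') := by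
  have h1 : A.relIndex E = q := Nat.eq_of_mul_eq_mul_left (Nat.card_pos (α := A))
    ((CfsgLib.Coprime.card_mul_relIndex hA).trans (by rw [← hcA, mul_comm]))
  have h2 : A'.relIndex E = q := Nat.eq_of_mul_eq_mul_left (Nat.card_pos (α := A'))
    ((CfsgLib.Coprime.card_mul_relIndex hA').trans (by rw [← hcA', mul_comm]))
  calc Nat.card E = Nat.card ↥(A ⊓ A') * (A ⊓ A').relIndex E :=
        (CfsgLib.Coprime.card_mul_relIndex (inf_le_left.trans hA)).symm
    _ ≤ Nat.card ↥(A ⊓ A') * (A.relIndex E * A'.relIndex E) :=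
        Nat.mul_le_mul_left _ relIndex_inf_le
    _ = q ^ 2 * Nat.card ↥(A ⊓ A') := by rw [h1, h2]; ring

variable [Finite G] {p k : ℕ} [hp : Fact p.Prime]

theorem isPGroup_coreCent (A : Subgroup G) : IsPGroup p (coreCent p A) :=
  (CfsgLib.LS.pCoreOf_isPGroup _).to_le inf_le_left

theorem normalizer_le_normalizer_coreCent (A : Subgroup G) :
    normalizer (A : Set G) ≤ normalizer ((coreCent p A : Subgroup G) : Set G) :=
  CfsgLib.Coprime.inf_le_normalizer
    (le_normalizer.trans (CfsgLib.LS.normalizer_le_normalizer_pCoreOf _))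
    (CfsgLib.Coprime.normalizer_le_normalizer_centralizer A)

/-- A two-group centralizing `A` acts faithfully on `coreCent p A`. -/
theorem Setup.faithful (hs : Setup G p k) {A : Subgroup G} (hA : IsPGroup p A) (hA1 : A ≠ ⊥)
    {R : Subgroup G} (hR : IsPGroup 2 R) (hRA : R ≤ centralizer (A : Set G))
    (hfix : R ≤ centralizer ((coreCent p A : Subgroup G) : Set G)) : R = ⊥ := by
  haveI : Fact (Nat.Prime 2) := ⟨Nat.prime_two⟩
  have hRN : R ≤ normalizer (A : Set G) :=
    hRA.trans (CfsgLib.Coprime.centralizer_le_normalizer_self A)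
  set Q := Cfsg.pCoreOf p (normalizer (A : Set G)) with hQdef
  have hQn : normalizer (A : Set G) ≤ normalizer (Q : Set G) :=
    le_normalizer.trans (CfsgLib.LS.normalizer_le_normalizer_pCoreOf _)
  have hcop : (Nat.card R).Coprime p := by
    obtain ⟨m, hm⟩ := IsPGroup.iff_card.1 hR
    rw [hm]
    exact ((Nat.coprime_primes Nat.prime_two hp.out).2 (Ne.symm hs.odd)).pow_left m
  have hRQ : R ≤ centralizer (Q : Set G) :=
    CfsgLib.Coprime.pq_lemma hA hcop (CfsgLib.LS.pCoreOf_isPGroup _) (le_centralizer_iff.1 hRA)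
      (le_normalizer.trans hQn) (hRN.trans hQn) (le_centralizer_iff.1 hfix)
  have hRp : IsPGroup p R := (CfsgLib.LS.pCoreOf_isPGroup (normalizer (A : Set G))).to_le
    fun x hx => (CfsgLib.LS.charP_iff _).1 (hs.locp.2 A hA hA1) ⟨hRN hx, hRQ hx⟩
  exact disjoint_self.1 (IsPGroup.disjoint_of_ne 2 p (Ne.symm hs.odd) _ _ hR hRp)

/-- The rank lemma. -/
theorem Setup.rank_add (hs : Setup G p k) : ∀ {a h : ℕ} {A H : Subgroup G},
    Cfsg.IsElementaryAbelian p A → Nat.card A = p ^ a → 1 ≤ a →
    Cfsg.IsElementaryAbelian 2 H → H ≤ centralizer (A : Set G) → Nat.card H = 2 ^ h → 1 ≤ h →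
    h + a ≤ k + 1 := by
  haveI : Fact (Nat.Prime 2) := ⟨Nat.prime_two⟩
  intro a
  induction hn : k + 1 - a using Nat.strong_induction_on generalizing a with
  | _ n ih =>
    intro h A H hA hAc ha hH hHA hHc hh
    have hne : ∀ {K : Subgroup G} {m : ℕ}, Nat.card K = 2 ^ m → 1 ≤ m → K ≠ ⊥ := by
      intro K m hK hm e
      rw [e, card_bot] at hK
      exact (Nat.one_lt_pow (by omega) one_lt_two).ne hK
    have hle : ∀ {K B : Subgroup G} {m b : ℕ}, Cfsg.IsElementaryAbelian 2 K →
        Nat.card K = 2 ^ m → 1 ≤ m → Cfsg.IsElementaryAbelian p B → Nat.card B = p ^ b →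
        K ≤ centralizer (B : Set G) → b ≤ k := by
      intro K B m b hK hKc hm hB hBc hKB
      have := hs.rank K B (isPGroup_of_elementary hK) (hne hKc hm) hB
        ((le_centralizer_iff.1 hKB).trans (CfsgLib.Coprime.centralizer_le_normalizer_self K))
      rw [hBc] at this
      exact (Nat.pow_le_pow_iff_right hp.out.one_lt).1 this
    have hak : a ≤ k := hle hH hHc hh hA hAc hHA
    by_cases h2 : h = 1
    · omega
    set X := coreCent p A with hXdef
    have hXp : IsPGroup p X := isPGroup_coreCent A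
    have hHX : H ≤ normalizer (X : Set G) :=
      (hHA.trans (CfsgLib.Coprime.centralizer_le_normalizer_self A)).trans
        (normalizer_le_normalizer_coreCent A)
    have hA1 : A ≠ ⊥ := by
      intro e
      rw [e, card_bot] at hAc
      exact (Nat.one_lt_pow (by omega) hp.out.one_lt).ne hAc
    obtain ⟨H₀, hH₀, hH₀c, hmove⟩ := exists_hyperplane_not_le (W := centralizer (H : Set G)) hH
      (by rw [hHc]; exact Nat.pow_le_pow_right two_pos (by omega))
      (not_dvd_card (Ne.symm hs.odd) hXp) hHX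
      fun e => hne hHc hh (hs.faithful (isPGroup_of_elementary hA) hA1 (isPGroup_of_elementary hH)
        hHA (le_centralizer_iff.1 e))
    have hH₀c' : Nat.card H₀ = 2 ^ (h - 1) := by
      have e : 2 * 2 ^ (h - 1) = 2 ^ h := by rw [← pow_succ']; congr 1; omega
      omega
    set Y := X ⊓ centralizer (H₀ : Set G) with hYdef
    obtain ⟨g, hg, y, hyY, hyp, hgy⟩ :
        ∃ g ∈ H, ∃ y ∈ Y, y ^ p = 1 ∧ g * y ≠ y * g := by
      by_contra hno
      push Not at hno
      refine hmove fun x hx => mem_centralizer_iff.2 fun g hg => ?_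
      exact (CfsgLib.PGroup.commute_of_fix_omega_odd hs.odd (hXp.to_le inf_le_left)
        (inf_centralizer_le_normalizer hH hH₀ hHX hg)
        (fun hd => not_dvd_card (q := p) hs.odd (isPGroup_of_elementary hH)
          (hd.trans (Subgroup.orderOf_dvd_natCard _ hg)))
        (fun z hz hzp => hno g hg z hz hzp) x hx).eq
    set B := A ⊔ zpowers y with hBdef
    have hyA : ∀ u ∈ A, y * u = u * y := fun u hu => (mem_centralizer_iff.1 hyY.1.2 u hu).symm
    have hB : Cfsg.IsElementaryAbelian p B := elementary_sup_zpowers hA hyp hyA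
    have hlt : A < B := lt_of_le_of_ne le_sup_left fun e =>
      hgy (mem_centralizer_iff.1 (hHA hg) y (e ▸ mem_sup_right (mem_zpowers y))).symm
    obtain ⟨b, hBc⟩ := exists_card_pow hB
    have hab : a + 1 ≤ b := by
      have := mul_card_le_of_lt (isPGroup_of_elementary hB) hlt
      rw [hAc, hBc, ← pow_succ'] at this
      exact (Nat.pow_le_pow_iff_right hp.out.one_lt).1 this
    have hH₀B : H₀ ≤ centralizer (B : Set G) := by
      rw [le_centralizer_iff]
      exact sup_le (le_centralizer_iff.1 (hH₀.trans hHA)) (zpowers_le.2 hyY.2)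
    have hbk := hle (elementary_mono hH hH₀) hH₀c' (by omega) hB hBc hH₀B
    have := ih (k + 1 - b) (by omega) rfl hB hBc (by omega) (elementary_mono hH hH₀) hH₀B hH₀c'
      (by omega)
    omega

end CfsgLib.KlingerMason
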